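import Cfsg.Agent.DihedralBGroup.Basic
import Mathlib.Algebra.MonoidAlgebra.Basic
import Mathlib.Algebra.MonoidAlgebra.MapDomain
import Mathlib.Algebra.CharP.Lemmas
import Mathlib.Algebra.CharP.Algebra
import Mathlib.FieldTheory.Finite.Basic

/-!
# The group algebra of the dihedral group and the invariant elements
-/

set_option autoImplicit false
set_option linter.unusedSectionVars false

namespace CfsgLib.DihB

open MonoidAlgebra Finset

variable {m : ℕ} [NeZero m] {R : Type*} [CommRing R]

local notation "D" => DihedralGroup m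
local notation "C" => Multiplicative (ZMod m)

/-- The element with given coefficients. -/
noncomputable def ofFun {M : Type*} [Fintype M] (f : M → R) : MonoidAlgebra R M :=
  ∑ x, single x (f x)

theorem coeff_ofFun {M : Type*} [Fintype M] (f : M → R) (x : M) : (ofFun f).coeff x = f x := by
  classical
  rw [ofFun, coeff_sum, Finset.sum_apply', Finset.sum_eq_single x]
  · simp
  · intro y _ hy; simp [hy]
  · simp

/-- Coefficient of a product in a finite group. -/
theorem coeff_mul_group {M : Type*} [Group M] [Fintype M] (x y : MonoidAlgebra R M) (z : M) :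
    (x * y).coeff z = ∑ w, x.coeff w * y.coeff (w⁻¹ * z) := by
  classical
  rw [coeff_mul_antidiag x y z (univ.image fun w => (w, w⁻¹ * z)), sum_image]
  · intro a _ b _ h; exact congrArg Prod.fst h
  · intro p
    simp only [mem_image, mem_univ, true_and]
    exact ⟨fun ⟨w, hw⟩ => by rw [← hw]; simp, fun h => ⟨p.1, Prod.ext rfl (by simp [← h])⟩⟩

/-- The embedding of the rotations. -/
noncomputable def iota : MonoidAlgebra R C →+* MonoidAlgebra R D :=
  MonoidAlgebra.mapDomainRingHom R rot

/-- The distinguished reflection. -/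
noncomputable def Ref : MonoidAlgebra R D := single (refl 1) 1

/-- The canonical involution on the rotations. -/
noncomputable def bar : MonoidAlgebra R C →+* MonoidAlgebra R C :=
  MonoidAlgebra.mapDomainRingHom R invMonoidHom

theorem iota_single (c : C) (r : R) : iota (single c r) = single (rot c) r := by simp [iota]

theorem bar_single (c : C) (r : R) : bar (single c r) = single c⁻¹ r := by simp [bar]

theorem coeff_iota_rot (a : MonoidAlgebra R C) (c : C) : (iota a).coeff (rot c) = a.coeff c := by
  induction a using MonoidAlgebra.induction_linear with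
  | zero => simp
  | add f g hf hg => simp [hf, hg]
  | single d r =>
    classical
    simp [iota_single, Finsupp.single_apply, rot_injective.eq_iff]

theorem coeff_iota_refl (a : MonoidAlgebra R C) (c : C) : (iota a).coeff (refl c) = 0 := by
  induction a using MonoidAlgebra.induction_linear with
  | zero => simp
  | add f g hf hg => simp [hf, hg]
  | single d r =>
    simp [iota_single, (refl_ne_rot c d).symm]

theorem coeff_bar (a : MonoidAlgebra R C) (c : C) : (bar a).coeff c = a.coeff c⁻¹ := by
  induction a using MonoidAlgebra.induction_linear with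
  | zero => simp
  | add f g hf hg => simp [hf, hg]
  | single d r =>
    classical
    simp [bar_single, Finsupp.single_apply, inv_eq_iff_eq_inv]

theorem bar_bar (a : MonoidAlgebra R C) : bar (bar a) = a := by
  ext c; simp [coeff_bar]

theorem coeff_ref_mul (x : MonoidAlgebra R D) (d : D) :
    ((Ref : MonoidAlgebra R D) * x).coeff d = x.coeff (refl 1 * d) := by
  rw [Ref, coeff_single_mul_eq_mul_coeff (refl 1 * d), one_mul]
  intro y _
  have h : refl (1 : C) * refl 1 = (1 : D) := by rw [refl_mul_refl, div_one, map_one]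
  constructor
  · rintro rfl; rw [← mul_assoc, h, one_mul]
  · rintro rfl; rw [← mul_assoc, h, one_mul]

theorem coeff_ref_iota_refl (b : MonoidAlgebra R C) (c : C) :
    (Ref * iota b).coeff (refl c) = b.coeff c := by
  rw [coeff_ref_mul, refl_mul_refl, div_one, coeff_iota_rot]

theorem coeff_ref_iota_rot (b : MonoidAlgebra R C) (c : C) :
    (Ref * iota b).coeff (rot c) = 0 := by
  rw [coeff_ref_mul, refl_mul_rot, coeff_iota_refl]

/-- The rotation part. -/
noncomputable def cpart (x : MonoidAlgebra R D) : MonoidAlgebra R C := ofFun fun c => x.coeff (rot c)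

/-- The reflection part. -/
noncomputable def spart (x : MonoidAlgebra R D) : MonoidAlgebra R C := ofFun fun c => x.coeff (refl c)

theorem coeff_cpart (x : MonoidAlgebra R D) (c : C) : (cpart x).coeff c = x.coeff (rot c) :=
  coeff_ofFun _ c

theorem coeff_spart (x : MonoidAlgebra R D) (c : C) : (spart x).coeff c = x.coeff (refl c) :=
  coeff_ofFun _ c

theorem eq_parts (x : MonoidAlgebra R D) : x = iota (cpart x) + Ref * iota (spart x) := by
  refine MonoidAlgebra.coeff_injective (Finsupp.ext fun d => ?_)
  rcases rot_or_refl d with ⟨c, rfl⟩ | ⟨c, rfl⟩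
  · rw [coeff_add, Finsupp.add_apply, coeff_iota_rot, coeff_cpart, coeff_ref_iota_rot, add_zero]
  · rw [coeff_add, Finsupp.add_apply, coeff_iota_refl, coeff_ref_iota_refl, coeff_spart, zero_add]

theorem cpart_iota_add (a b : MonoidAlgebra R C) : cpart (iota a + Ref * iota b) = a := by
  ext c; simp [coeff_cpart, coeff_iota_rot, coeff_ref_iota_rot]

theorem spart_iota_add (a b : MonoidAlgebra R C) : spart (iota a + Ref * iota b) = b := by
  ext c; simp [coeff_spart, coeff_iota_refl, coeff_ref_iota_refl]

theorem ref_mul_ref : (Ref : MonoidAlgebra R D) * Ref = 1 := by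
  rw [Ref, single_mul_single, refl_mul_refl, div_one, map_one, mul_one, MonoidAlgebra.one_def]

theorem iota_mul_ref (a : MonoidAlgebra R C) :
    iota a * (Ref : MonoidAlgebra R D) = Ref * iota (bar a) := by
  induction a using MonoidAlgebra.induction_linear with
  | zero => simp
  | add f g hf hg => simp [add_mul, mul_add, hf, hg]
  | single d r =>
    rw [iota_single, bar_single, iota_single, Ref, single_mul_single, single_mul_single, mul_one,
      one_mul, rot_mul_refl, refl_mul_rot, one_div, one_mul]

variable {a b : MonoidAlgebra R (Multiplicative (ZMod m))}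

theorem ref_iota_sq (b : MonoidAlgebra R C) :
    (Ref * iota b) * (Ref * iota b) = iota (bar b * b) := by
  rw [mul_assoc, ← mul_assoc (iota b), iota_mul_ref, ← mul_assoc, ← mul_assoc, ref_mul_ref, one_mul,
    map_mul]

theorem commute_parts (ha : bar a = a) (b : MonoidAlgebra R C) :
    Commute (iota a) (Ref * iota b) := by
  unfold Commute SemiconjBy
  rw [← mul_assoc, iota_mul_ref, ha, mul_assoc, mul_assoc, ← map_mul, ← map_mul, mul_comm a b]

theorem sq_eq (ha : bar a = a) (b : MonoidAlgebra R C) :
    (iota a + Ref * iota b) ^ 2 = iota (a * a + bar b * b) + Ref * iota (a * b + a * b) := by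
  rw [sq, add_mul, mul_add, mul_add, ref_iota_sq, (commute_parts ha b).eq, map_add, map_mul,
    map_add, mul_add, mul_assoc Ref (iota b) (iota a), ← map_mul iota b a, mul_comm b a, map_mul, map_mul]
  abel

theorem pow_char (p : ℕ) [Fact p.Prime] {a : MonoidAlgebra (ZMod p) C} (ha : bar a = a)
    (b : MonoidAlgebra (ZMod p) C) :
    (iota a + Ref * iota b) ^ p = iota (a ^ p) + (Ref * iota b) ^ p := by
  haveI : CharP (MonoidAlgebra (ZMod p) D) p := charP_of_injective_algebraMap' (ZMod p) p
  rw [add_pow_char_of_commute p (commute_parts ha b), map_pow]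

theorem ref_iota_pow_eq_zero {n : ℕ} (hn : 2 ≤ n) (hb : bar b * b = 0) : (Ref * iota b) ^ n = 0 := by
  obtain ⟨k, rfl⟩ := Nat.exists_eq_add_of_le hn
  rw [pow_add, sq, ref_iota_sq, hb, map_zero, zero_mul]

theorem ref_iota_pow_odd (b : MonoidAlgebra R C) (k : ℕ) :
    (Ref * iota b) ^ (2 * k + 1) = Ref * iota ((bar b * b) ^ k * b) := by
  induction k with
  | zero => simp
  | succ k ih =>
    rw [show 2 * (k + 1) + 1 = (2 * k + 1) + 2 by ring, pow_add, ih, sq, ref_iota_sq, mul_assoc,
      ← map_mul]
    congr 2
    ring

/-- Frobenius on the rotations. -/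
theorem coeff_pow_char (p : ℕ) [Fact p.Prime] (a : MonoidAlgebra (ZMod p) C) (h : C) :
    (a ^ p).coeff h = ∑ c ∈ univ.filter (fun c => c ^ p = h), a.coeff c := by
  haveI : CharP (MonoidAlgebra (ZMod p) C) p := charP_of_injective_algebraMap' (ZMod p) p
  classical
  have ha : a = ∑ c, single c (a.coeff c) := MonoidAlgebra.coeff_injective (Finsupp.ext fun c => (coeff_ofFun _ c).symm)
  conv_lhs => rw [ha]
  rw [sum_pow_char, coeff_sum, Finset.sum_apply', Finset.sum_filter]
  refine Finset.sum_congr rfl fun c _ => ?_
  rw [single_pow, ZMod.pow_card, coeff_single, Finsupp.single_apply]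

/-- Invariant elements. -/
def InvA (Γ : Subgroup (Equiv.Perm (DihedralGroup m))) (x : MonoidAlgebra R (DihedralGroup m)) : Prop :=
  Inv Γ (fun d => x.coeff d)

variable {Γ : Subgroup (Equiv.Perm (DihedralGroup m))}

theorem InvA.mul {x y : MonoidAlgebra R D} (hx : InvA Γ x) (hy : InvA Γ y) : InvA Γ (x * y) := by
  intro g hg u v
  have key : ∀ u v : D, (x * y).coeff (u⁻¹ * v) = ∑ w, x.coeff (u⁻¹ * w) * y.coeff (w⁻¹ * v) := by
    intro u v
    rw [coeff_mul_group]
    refine Fintype.sum_equiv (Equiv.mulLeft u) _ _ fun w => ?_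
    simp [mul_assoc]
  show (x * y).coeff _ = (x * y).coeff _
  rw [key, key]
  symm
  refine Fintype.sum_equiv g _ _ fun w => ?_
  exact congrArg₂ (· * ·) (hx g hg u w).symm (hy g hg w v).symm

theorem InvA.one : InvA Γ (1 : MonoidAlgebra R D) := by
  classical
  refine fun g hg x y => ?_
  show (1 : MonoidAlgebra R D).coeff _ = (1 : MonoidAlgebra R D).coeff _
  simp only [MonoidAlgebra.one_def, coeff_single, Finsupp.single_apply, eq_comm (a := (1 : D)),
    inv_mul_eq_one, EmbeddingLike.apply_eq_iff_eq]

theorem InvA.pow {x : MonoidAlgebra R D} (hx : InvA Γ x) : ∀ n, InvA Γ (x ^ n)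
  | 0 => by rw [pow_zero]; exact InvA.one
  | n + 1 => by rw [pow_succ]; exact (hx.pow n).mul hx

theorem InvA.sub {x y : MonoidAlgebra R D} (hx : InvA Γ x) (hy : InvA Γ y) : InvA Γ (x - y) :=
  fun g hg u v => by
    show (x - y).coeff _ = (x - y).coeff _
    simp only [coeff_sub, Finsupp.sub_apply]
    exact congrArg₂ (· - ·) (hx g hg u v) (hy g hg u v)

open scoped Classical in
/-- The indicator of a set. -/
noncomputable def ind (R : Type*) [CommRing R] (P : DihedralGroup m → Prop) :
    MonoidAlgebra R (DihedralGroup m) := ofFun fun d => if P d then 1 else 0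

open scoped Classical in
theorem coeff_ind (P : D → Prop) (d : D) : (ind R P).coeff d = if P d then 1 else 0 :=
  coeff_ofFun _ d

theorem invA_ind {P : D → Prop} (hP : Inv Γ P) : InvA Γ (ind R P) := by
  classical
  intro g hg x y
  show (ind R P).coeff _ = (ind R P).coeff _
  rw [coeff_ind, coeff_ind]
  simp only [hP g hg x y]

theorem bar_cpart (hΓ : Prim Γ) {x : MonoidAlgebra R D} (hx : InvA Γ x) :
    bar (cpart x) = cpart x := by
  ext c
  rw [coeff_bar, coeff_cpart, coeff_cpart, map_inv]
  exact Inv.symmetric hΓ hx _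

/-- The sum of the coefficients. -/
noncomputable def eps {M : Type*} [Monoid M] : MonoidAlgebra R M →ₐ[R] R :=
  MonoidAlgebra.lift R R M 1

theorem eps_eq {M : Type*} [Monoid M] [Fintype M] (x : MonoidAlgebra R M) :
    eps x = ∑ d, x.coeff d := by
  classical
  induction x using MonoidAlgebra.induction_linear with
  | zero => simp
  | add f g hf hg => simp [hf, hg, Finset.sum_add_distrib]
  | single d r => simp [eps, Finsupp.single_apply]

theorem sum_dihedral {A : Type*} [AddCommMonoid A] (f : D → A) :
    ∑ d, f d = (∑ c : C, f (rot c)) + ∑ c : C, f (refl c) := by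
  classical
  rw [← Finset.sum_image (g := rot) (fun a _ b _ h => rot_injective h),
    ← Finset.sum_image (g := refl) (fun a _ b _ h => refl_injective h), ← Finset.sum_union]
  · refine Finset.sum_congr ?_ fun _ _ => rfl
    ext d
    simpa [eq_comm] using rot_or_refl d
  · rw [Finset.disjoint_left]
    intro d h1 h2
    obtain ⟨a, -, rfl⟩ := Finset.mem_image.1 h1
    obtain ⟨b, -, hb⟩ := Finset.mem_image.1 h2
    exact refl_ne_rot b a hb

end CfsgLib.DihB
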