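import Mathlib.GroupTheory.SpecificGroups.Dihedral
import Mathlib.GroupTheory.Perm.Basic
import Mathlib.Logic.Relation

/-!
# Dihedral B-groups: invariant functions

A permutation group `Γ` on the dihedral group `D` containing all left translations; a function on
`D` is invariant when the two-point function `f (x⁻¹ * y)` is invariant under `Γ`.
-/

set_option autoImplicit false

namespace CfsgLib.DihB

variable {m : ℕ}

local notation "D" => DihedralGroup m
local notation "C" => Multiplicative (ZMod m)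

/-- Invariance of a function of the difference of two points. -/
def Inv (Γ : Subgroup (Equiv.Perm D)) {β : Sort*} (f : D → β) : Prop :=
  ∀ g ∈ Γ, ∀ x y : D, f ((g x)⁻¹ * g y) = f (x⁻¹ * y)

/-- A primitive group containing the left translations. -/
structure Prim (Γ : Subgroup (Equiv.Perm D)) : Prop where
  left : ∀ d : D, Equiv.mulLeft d ∈ Γ
  eqv : ∀ r : D → D → Prop, Equivalence r → (∀ g ∈ Γ, ∀ x y, r x y → r (g x) (g y)) →
    (∀ x y, r x y → x = y) ∨ ∀ x y, r x y

/-- A rotation. -/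
def rot : C →* D where
  toFun c := .r c.toAdd
  map_one' := rfl
  map_mul' _ _ := rfl

/-- A reflection. -/
def refl (c : C) : D := .sr c.toAdd

theorem rot_mul_refl (c d : C) : rot c * refl d = refl (d / c) := rfl
theorem refl_mul_rot (c d : C) : refl c * rot d = refl (c * d) := rfl
theorem refl_mul_refl (c d : C) : refl c * refl d = rot (d / c) := rfl
theorem refl_inv (c : C) : (refl c)⁻¹ = refl c := rfl

theorem rot_injective : Function.Injective (rot (m := m)) := fun c d h => by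
  exact Multiplicative.toAdd.injective (DihedralGroup.r.inj h)

theorem refl_injective : Function.Injective (refl (m := m)) := fun c d h => by
  exact Multiplicative.toAdd.injective (DihedralGroup.sr.inj h)

theorem refl_ne_rot (c d : C) : refl c ≠ rot d := fun h => by simp [rot, refl] at h

theorem refl_ne_one (c : C) : refl c ≠ 1 := fun h => refl_ne_rot c 1 (h.trans (map_one rot).symm)

theorem rot_ne_one {c : C} (hc : c ≠ 1) : rot c ≠ 1 := fun h =>
  hc (rot_injective (h.trans (map_one rot).symm))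

theorem rot_or_refl (d : D) : (∃ c, rot c = d) ∨ ∃ c, refl c = d := by
  cases d with
  | r i => exact Or.inl ⟨Multiplicative.ofAdd i, rfl⟩
  | sr i => exact Or.inr ⟨Multiplicative.ofAdd i, rfl⟩

variable {Γ : Subgroup (Equiv.Perm (DihedralGroup m))}

theorem Inv.comp {β β' : Sort*} {f : D → β} (hf : Inv Γ f) (φ : β → β') : Inv Γ (fun d => φ (f d)) :=
  fun g hg x y => congrArg φ (hf g hg x y)

theorem Inv.map₂ {β β' β'' : Sort*} {f : D → β} {h : D → β'} (hf : Inv Γ f) (hh : Inv Γ h)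
    (φ : β → β' → β'') : Inv Γ (fun d => φ (f d) (h d)) :=
  fun g hg x y => by
    show φ _ _ = φ _ _
    rw [hf g hg x y, hh g hg x y]

theorem Inv.inverse {β : Sort*} {f : D → β} (hf : Inv Γ f) : Inv Γ (fun d => f d⁻¹) :=
  fun g hg x y => by simpa using hf g hg y x

theorem Inv.eq_one : Inv Γ (fun d => d = 1) := fun g _ x y => by
  simp [inv_mul_eq_one]

theorem Inv.ne_one_and {P : D → Prop} (hP : Inv Γ P) : Inv Γ (fun d => d ≠ 1 ∧ P d) :=
  Inv.map₂ Inv.eq_one hP fun a b => ¬ a ∧ b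

/-- The orbits of the stabilizer of `1`. -/
def Orb (Γ : Subgroup (Equiv.Perm D)) (d y : D) : Prop := ∃ g ∈ Γ, g 1 = 1 ∧ g d = y

theorem Orb.refl' (d : D) : Orb Γ d d := ⟨1, one_mem _, rfl, rfl⟩

theorem Orb.symm {d y : D} (h : Orb Γ d y) : Orb Γ y d := by
  obtain ⟨g, hg, h1, h2⟩ := h
  exact ⟨g⁻¹, inv_mem hg, Equiv.Perm.inv_eq_iff_eq.2 h1.symm, Equiv.Perm.inv_eq_iff_eq.2 h2.symm⟩

theorem Orb.trans {d y z : D} (h : Orb Γ d y) (h' : Orb Γ y z) : Orb Γ d z := by
  obtain ⟨g, hg, h1, h2⟩ := h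
  obtain ⟨k, hk, h3, h4⟩ := h'
  exact ⟨k * g, mul_mem hk hg, by simp [h1, h3], by simp [h2, h4]⟩

theorem Orb.eq {β : Sort*} {f : D → β} (hf : Inv Γ f) {d y : D} (h : Orb Γ d y) : f y = f d := by
  obtain ⟨g, hg, h1, h2⟩ := h
  simpa [h1, h2] using hf g hg 1 d

theorem Orb.ne_one {d y : D} (h : Orb Γ d y) (hd : d ≠ 1) : y ≠ 1 := by
  obtain ⟨g, -, h1, h2⟩ := h
  rintro rfl
  exact hd (g.injective (h2.trans h1.symm))

variable (hΓ : Prim Γ)
include hΓ

theorem inv_orb (d : D) : Inv Γ (Orb Γ d) := by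
  intro g hg x y
  have h : Orb Γ (x⁻¹ * y) ((g x)⁻¹ * g y) :=
    ⟨Equiv.mulLeft (g x)⁻¹ * g * Equiv.mulLeft x, mul_mem (mul_mem (hΓ.left _) hg) (hΓ.left _),
      by simp, by simp⟩
  exact propext ⟨fun h' => h'.trans h.symm, fun h' => h'.trans h⟩

/-- A non-empty invariant set generates. -/
theorem eq_top_of_inv {P : D → Prop} (hP : Inv Γ P) (h1 : ¬ P 1) {d : D} (hd : P d) {K : Subgroup D}
    (hK : ∀ y, P y → y ∈ K) : K = ⊤ := by
  let r : D → D → Prop := Relation.EqvGen fun x y => P (x⁻¹ * y)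
  have key : ∀ x y, r x y → x⁻¹ * y ∈ K := by
    intro x y h
    induction h with
    | rel x y h => exact hK _ h
    | refl x => simp
    | symm x y _ ih => simpa using inv_mem ih
    | trans x y z _ _ ih ih' => simpa [mul_assoc] using mul_mem ih ih'
  rcases hΓ.eqv r (Relation.EqvGen.is_equivalence _) (fun g hg x y h => by
    induction h with
    | rel x y h => exact Relation.EqvGen.rel _ _ ((hP g hg x y).symm ▸ h)
    | refl x => exact Relation.EqvGen.refl _
    | symm x y _ ih => exact Relation.EqvGen.symm _ _ ih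
    | trans x y z _ _ ih ih' => exact Relation.EqvGen.trans _ _ _ ih ih') with h | h
  · have := h 1 d (Relation.EqvGen.rel _ _ (by simpa using hd))
    exact absurd (this ▸ hd) h1
  · exact eq_top_iff.2 fun y _ => by simpa using key 1 y (h 1 y)

/-- A non-empty invariant set is not fixed by a translation. -/
theorem translate_ne {P : D → Prop} (hP : Inv Γ P) (h1 : ¬ P 1) {d : D} (hd : P d) {t : D}
    (ht : t ≠ 1) : ¬ ∀ y, P (t⁻¹ * y) ↔ P y := by
  intro hty
  let r : D → D → Prop := fun x y => ∀ w, P (x⁻¹ * w) ↔ P (y⁻¹ * w)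
  have he : Equivalence r :=
    ⟨fun _ _ => Iff.rfl, fun h w => (h w).symm, fun h h' w => (h w).trans (h' w)⟩
  rcases hΓ.eqv r he (fun g hg x y h w => by
    obtain ⟨w, rfl⟩ := g.surjective w
    rw [hP g hg, hP g hg]
    exact h w) with h | h
  · exact ht (h t 1 fun w => by simpa using hty w)
  · exact h1 (by simpa using (h 1 d d).1 (by simpa using hd))

variable [NeZero m]

/-- An invariant set inside the reflections is empty. -/
theorem exists_rot_of_inv (hm : 2 ≤ m) {P : D → Prop} (hP : Inv Γ P) (h1 : ¬ P 1) {d : D} (hd : P d) :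
    ∃ c, c ≠ 1 ∧ P (rot c) := by
  by_contra hno
  push Not at hno
  have href : ∀ y, P y → ∃ c, refl c = y := fun y hy => by
    rcases rot_or_refl y with ⟨c, rfl⟩ | h
    · by_cases hc : c = 1
      · rw [hc, map_one] at hy; exact absurd hy h1
      · exact absurd hy (hno c hc)
    · exact h
  let Q : D → Prop := fun y => y ≠ 1 ∧ ∃ z, P z ∧ P (z⁻¹ * y)
  have hQ : Inv Γ Q := Inv.ne_one_and fun g hg x y => by
    refine propext ⟨fun ⟨z, hz, hz'⟩ => ?_, fun ⟨z, hz, hz'⟩ => ?_⟩
    · obtain ⟨w, hw⟩ := g.surjective (g x * z)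
      refine ⟨x⁻¹ * w, ?_, ?_⟩
      · rw [← hP g hg, hw]; simpa using hz
      · rw [show (x⁻¹ * w)⁻¹ * (x⁻¹ * y) = w⁻¹ * y by group, ← hP g hg, hw]
        simpa [mul_assoc] using hz'
    · refine ⟨(g x)⁻¹ * g (x * z), ?_, ?_⟩
      · rw [hP g hg]; simpa using hz
      · rw [show ((g x)⁻¹ * g (x * z))⁻¹ * ((g x)⁻¹ * g y) = (g (x * z))⁻¹ * g y by group, hP g hg]
        simpa [mul_assoc] using hz'
  have hQe : ∀ y, ¬ Q y := by
    intro y hy
    have hK : (rot : C →* D).range = ⊤ := eq_top_of_inv hΓ hQ (fun h => h.1 rfl) hy fun z hz => by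
      obtain ⟨-, w, hw, hw'⟩ := hz
      obtain ⟨c, rfl⟩ := href _ hw
      obtain ⟨c', hc'⟩ := href _ hw'
      rw [eq_inv_mul_iff_mul_eq] at hc'
      exact ⟨c' / c, by rw [← hc', refl_mul_refl]⟩
    obtain ⟨c, hc⟩ := hK.ge (Subgroup.mem_top (refl 1))
    exact refl_ne_rot 1 c hc.symm
  obtain ⟨c, rfl⟩ := href d hd
  have huniq : ∀ y, P y → y = refl c := by
    intro y hy
    obtain ⟨c', rfl⟩ := href y hy
    by_contra hne
    refine hQe (rot (c' / c)) ⟨rot_ne_one fun h => hne ?_, refl c, hd, ?_⟩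
    · rw [div_eq_one] at h; rw [h]
    · rw [refl_inv, refl_mul_rot, mul_div_cancel]; exact hy
  have htop := eq_top_of_inv hΓ hP h1 hd (K := Subgroup.zpowers (refl c)) fun y hy => by
    rw [huniq y hy]; exact Subgroup.mem_zpowers _
  have h2 : orderOf (refl c) = 2 := DihedralGroup.orderOf_sr _
  have h3 := congrArg (fun K : Subgroup D => Nat.card K) htop
  simp only [Nat.card_zpowers, h2, Subgroup.card_top, DihedralGroup.nat_card] at h3
  omega

/-- An invariant function vanishing on the rotations vanishes outside `1`. -/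
theorem eq_zero_of_rot (hm : 2 ≤ m) {R : Type*} [Zero R] {f : D → R} (hf : Inv Γ f)
    (h : ∀ c, c ≠ 1 → f (rot c) = 0) {d : D} (hd : d ≠ 1) : f d = 0 := by
  by_contra hne
  obtain ⟨c, hc, hc'⟩ := exists_rot_of_inv hΓ hm (Inv.ne_one_and (hf.comp fun a => a ≠ 0))
    (fun h => h.1 rfl) (d := d) ⟨hd, hne⟩
  exact hc'.2 (h c hc)

/-- An invariant set meets the reflections. -/
theorem exists_refl_of_inv {P : D → Prop} (hP : Inv Γ P) (h1 : ¬ P 1) {d : D} (hd : P d) :
    ∃ c, P (refl c) := by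
  by_contra hno
  push Not at hno
  have hK : (rot : C →* D).range = ⊤ := eq_top_of_inv hΓ hP h1 hd fun y hy => by
    rcases rot_or_refl y with h | ⟨c, rfl⟩
    · exact h
    · exact absurd hy (hno c)
  obtain ⟨c, hc⟩ := hK.ge (Subgroup.mem_top (refl 1))
  exact refl_ne_rot 1 c hc.symm

/-- All invariant sets are closed under inversion. -/
theorem orb_inv {d y : D} (hd : d ≠ 1) (h : Orb Γ d y) : Orb Γ d y⁻¹ := by
  obtain ⟨c, hc⟩ := exists_refl_of_inv hΓ (inv_orb hΓ d) (fun h => Orb.ne_one h hd rfl) (Orb.refl' d)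
  have hI := (inv_orb hΓ d).inverse
  have h1 : Orb Γ (refl c) y := hc.symm.trans h
  have h2 := h1.eq hI
  simp only [refl_inv] at h2
  exact h2.ge hc

/-- Invariant functions are symmetric. -/
theorem Inv.symmetric {β : Sort*} {f : D → β} (hf : Inv Γ f) (d : D) : f d⁻¹ = f d := by
  by_cases hd : d = 1
  · rw [hd, inv_one]
  · exact (orb_inv hΓ hd (Orb.refl' d)).eq hf

end CfsgLib.DihB
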