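import Cfsg.Agent.DihedralBGroup.Rational

/-!
# The sixteen-element exceptional case
-/

set_option autoImplicit false

namespace CfsgLib.DihB

open Finset

/-- A periodic set avoiding the kernel. -/
def pat8a (x y : Bool) (c : Multiplicative (ZMod 8)) : Bool :=
  [false, x, y, x, false, x, y, x].getD (Multiplicative.toAdd c : ZMod 8).val false

/-- An arbitrary set. -/
def pat8b (x y z w x' y' z' w' : Bool) (c : Multiplicative (ZMod 8)) : Bool :=
  [x, y, z, w, x', y', z', w'].getD (Multiplicative.toAdd c : ZMod 8).val false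

/-- The computable correlation. -/
def corrB (f : Multiplicative (ZMod 8) → Bool) (c : Multiplicative (ZMod 8)) : ℕ :=
  #{e | f e = true ∧ f (e * c) = true}

theorem pat8_impossible : ∀ x y z w x' y' z' w' u v : Bool, ∀ g : Fin 7,
    (#{c | pat8b x y z w x' y' z' w' c = true} = 4 ∧ #{c | pat8a u v c = true} = g.1 ∧ (g.1 = 2 ∨ g.1 = 6)) →
      ¬ ∀ c, c ≠ 1 → corrB (pat8a u v) c + corrB (pat8b x y z w x' y' z' w') c = g.1 := by
  decide +kernel

theorem order_two_eight : ∀ t : Multiplicative (ZMod 8), t ^ 2 = 1 → t ≠ 1 →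
    t = Multiplicative.ofAdd (4 : ZMod 8) := by
  decide

open scoped Classical in
theorem eight {A B : Multiplicative (ZMod 8) → Prop} {t : Multiplicative (ZMod 8)}
    (ht : orderOf t = 2) (hAi : ∀ c, A c⁻¹ ↔ A c) (hA : ∀ c, A (c * t) ↔ A c)
    (hA1 : ¬ A 1) (g : Fin 7) (hg : g.1 = 2 ∨ g.1 = 6)
    (hAc : #{c | A c} = g.1) (hBc : #{c | B c} = 4)
    (h : ∀ c, c ≠ 1 → corr A c + corr B c = g.1) : False := by
  have ht2 : t ^ 2 = 1 := ht ▸ pow_orderOf_eq_one t
  have ht1 : t ≠ 1 := fun h => by rw [h, orderOf_one] at ht; omega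
  obtain rfl := order_two_eight t ht2 ht1
  let o (i : ℕ) : Multiplicative (ZMod 8) := Multiplicative.ofAdd (i : ZMod 8)
  have fA : ∀ c, A c ↔ pat8a (decide (A (o 1))) (decide (A (o 2))) c = true := by
    rw [Multiplicative.forall]
    intro i
    have h4 : ¬ A (o 4) := fun h => hA1 ((hA 1).1 h)
    have h5 : A (o 5) ↔ A (o 1) := hA (o 1)
    have h6 : A (o 6) ↔ A (o 2) := hA (o 2)
    have h7 : A (o 7) ↔ A (o 1) := hAi (o 1)
    have h3 : A (o 3) ↔ A (o 1) := (hA (o 3)).symm.trans h7
    fin_cases i
    · exact iff_of_false hA1 Bool.false_ne_true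
    · exact decide_eq_true_iff.symm
    · exact decide_eq_true_iff.symm
    · exact h3.trans decide_eq_true_iff.symm
    · exact iff_of_false h4 (Bool.false_ne_true)
    · exact h5.trans decide_eq_true_iff.symm
    · exact h6.trans decide_eq_true_iff.symm
    · exact h7.trans decide_eq_true_iff.symm
  have fB : ∀ c, B c ↔ pat8b (decide (B (o 0))) (decide (B (o 1))) (decide (B (o 2)))
      (decide (B (o 3))) (decide (B (o 4))) (decide (B (o 5))) (decide (B (o 6))) (decide (B (o 7)))
      c = true := by
    rw [Multiplicative.forall]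
    intro i
    fin_cases i
    · exact decide_eq_true_iff.symm
    · exact decide_eq_true_iff.symm
    · exact decide_eq_true_iff.symm
    · exact decide_eq_true_iff.symm
    · exact decide_eq_true_iff.symm
    · exact decide_eq_true_iff.symm
    · exact decide_eq_true_iff.symm
    · exact decide_eq_true_iff.symm
  generalize decide (A (o 1)) = u, decide (A (o 2)) = v at fA
  generalize decide (B (o 0)) = x, decide (B (o 1)) = y, decide (B (o 2)) = z,
    decide (B (o 3)) = w, decide (B (o 4)) = x', decide (B (o 5)) = y', decide (B (o 6)) = z',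
    decide (B (o 7)) = w' at fB
  refine pat8_impossible x y z w x' y' z' w' u v g ⟨?_, ?_, hg⟩ fun c hc => ?_
  · simpa only [← fB] using hBc
  · simpa only [← fA] using hAc
  · have := h c hc
    simp only [corr, fA, fB] at this
    unfold corrB
    convert this

end CfsgLib.DihB
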