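import Cfsg.Agent.DihedralBGroup.YSet

/-!
# Dihedral groups are B-groups
-/

set_option autoImplicit false
set_option linter.unusedSectionVars false

namespace CfsgLib.DihB

open MonoidAlgebra Finset
open scoped Classical

variable {m : ℕ} [NeZero m]

local notation "D" => DihedralGroup m
local notation "C" => Multiplicative (ZMod m)

/-- Rotations linked by an orbit or by equality of orders. -/
def Link (Γ : Subgroup (Equiv.Perm D)) (g h : C) : Prop :=
  g ≠ 1 ∧ h ≠ 1 ∧ (orderOf g = orderOf h ∨ Orb Γ (rot g) (rot h))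

/-- The classes generated by the links. -/
def Cls (Γ : Subgroup (Equiv.Perm D)) : C → C → Prop := Relation.EqvGen (Link Γ)

variable {Γ : Subgroup (Equiv.Perm (DihedralGroup m))}

theorem Cls.refl' (g : C) : Cls Γ g g := Relation.EqvGen.refl g
theorem Cls.symm {g h : C} (hh : Cls Γ g h) : Cls Γ h g := Relation.EqvGen.symm _ _ hh
theorem Cls.trans {g h k : C} (hh : Cls Γ g h) (hk : Cls Γ h k) : Cls Γ g k :=
  Relation.EqvGen.trans _ _ _ hh hk

theorem Cls.of_order {g h : C} (hg : g ≠ 1) (e : orderOf g = orderOf h) : Cls Γ g h :=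
  Relation.EqvGen.rel _ _ ⟨hg, fun h1 => hg (by rwa [← orderOf_eq_one_iff, e, orderOf_eq_one_iff]),
    Or.inl e⟩

theorem Cls.of_orb {g h : C} (hg : g ≠ 1) (e : Orb Γ (rot g) (rot h)) : Cls Γ g h :=
  Relation.EqvGen.rel _ _ ⟨hg, fun h1 => e.ne_one (rot_ne_one hg) (by rw [h1, map_one]), Or.inr e⟩

theorem Cls.ne_one {g h : C} (e : Cls Γ g h) : g ≠ 1 ↔ h ≠ 1 := by
  induction e with
  | rel g h r => exact iff_of_true r.1 r.2.1
  | refl g => exact Iff.rfl
  | symm g h _ ih => exact ih.symm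
  | trans g h k _ _ ih ih' => exact ih.trans ih'

/-- The union of the orbits through the rotations in a set. -/
def spread (Γ : Subgroup (Equiv.Perm D)) (U : C → Prop) (d : D) : Prop :=
  ∃ c, c ≠ 1 ∧ U c ∧ Orb Γ (rot c) d

theorem not_spread_one (U : C → Prop) : ¬ spread Γ U 1 := fun ⟨_, hc, _, h⟩ =>
  h.ne_one (rot_ne_one hc) rfl

theorem inv_spread (hΓ : Prim Γ) (U : C → Prop) : Inv Γ (spread Γ U) := fun g hg x y => by
  show (∃ c, _) = ∃ c, _
  simp only [inv_orb hΓ (rot _) g hg x y]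

theorem spread_rot {U : C → Prop} (hU : ∀ c d, c ≠ 1 → Cls Γ c d → U c → U d) (c : C) :
    spread Γ U (rot c) ↔ c ≠ 1 ∧ U c := by
  constructor
  · rintro ⟨d, hd, hUd, h⟩
    exact ⟨(Cls.of_orb hd h).ne_one.1 hd, hU d c hd (Cls.of_orb hd h) hUd⟩
  · rintro ⟨hc, hUc⟩
    exact ⟨c, hc, hUc, Orb.refl' _⟩

theorem rat_spread {U : C → Prop} (hU : ∀ c d, c ≠ 1 → Cls Γ c d → U c → U d) :
    Rat fun c => spread Γ U (rot c) := by
  intro c d e
  simp only [spread_rot hU]
  refine propext ⟨fun ⟨hc, h⟩ => ?_, fun ⟨hd, h⟩ => ?_⟩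
  · exact ⟨(Cls.of_order (Γ := Γ) hc e).ne_one.1 hc, hU c d hc (Cls.of_order hc e) h⟩
  · exact ⟨(Cls.of_order (Γ := Γ) hd e.symm).ne_one.1 hd, hU d c hd (Cls.of_order hd e.symm) h⟩

/-! ### Orders -/

theorem orderOf_eq_mul_of_dvd {p : ℕ} (hp : p.Prime) {c : C} (h : p ∣ orderOf c) :
    orderOf c = p * orderOf (c ^ p) := by
  rw [orderOf_pow' c hp.ne_zero, Nat.gcd_eq_right h, Nat.mul_div_cancel' h]

theorem orderOf_mul_prime {p : ℕ} (hp : p.Prime) {t : C} (ht : orderOf t = p) {c : C}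
    (h : ¬ p ∣ orderOf c) : orderOf (c * t) = orderOf c * p := by
  rw [(Commute.all c t).orderOf_mul_eq_mul_orderOf_of_coprime, ht]
  rw [ht, Nat.coprime_comm]
  exact hp.coprime_iff_not_dvd.2 h

theorem dvd_of_dvd_mul {q : ℕ} (hq : q.Prime) {a b : C} (h : q ∣ orderOf (a * b)) :
    q ∣ orderOf a ∨ q ∣ orderOf b :=
  hq.dvd_mul.1 (h.trans ((Commute.all a b).orderOf_mul_dvd_mul_orderOf))

theorem exists_orderOf_eq {p : ℕ} (hp : p.Prime) (h : p ∣ m) : ∃ t : C, orderOf t = p := by
  haveI : Fact p.Prime := ⟨hp⟩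
  exact exists_prime_orderOf_dvd_card p (by rwa [card_rot])

theorem dvd_of_dvd_orderOf {p : ℕ} {c : C} (h : p ∣ orderOf c) : p ∣ m := by
  have h' := h.trans (orderOf_dvd_card (x := c))
  rwa [card_rot] at h'

theorem mul_ne_one_of {p : ℕ} {t : C} (ht : orderOf t = p) {c : C} (hc : c ^ p ≠ 1) : c * t ≠ 1 := by
  intro h
  refine hc ?_
  rw [eq_inv_of_mul_eq_one_left h, inv_pow, ← ht, pow_orderOf_eq_one, inv_one]

variable (hΓ : Prim Γ)
include hΓ

/-- The comparison of a class with its translate. -/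
theorem cls_translate {p : ℕ} (hp : p.Prime) (hp2 : p ≠ 2) {t : C} (ht : orderOf t = p) {h h' : C}
    (h1 : h ≠ 1) (hfree : ¬ p ∣ orderOf h) (hcls : Cls Γ h h') (hne : ¬ Cls Γ h (h * t)) :
    ¬ p ∣ orderOf h' ∧ Cls Γ (h * t) (h' * t) := by
  haveI : Fact p.Prime := ⟨hp⟩
  have hh' : h' ≠ 1 := hcls.ne_one.1 h1
  -- the residues of the counts, for the class of `u`
  have key : ∀ u : C, u ≠ 1 → ∃ F : C → ZMod p, (∀ c d, c ≠ 1 → Cls Γ c d → F c = F d) ∧
      (∀ c, c ≠ 1 → p ∣ orderOf c → F c = 0) ∧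
      (∀ c, c ≠ 1 → ¬ p ∣ orderOf c →
        F c = (if Cls Γ u c then 1 else 0) - (if Cls Γ u (c * t) then 1 else 0)) := by
    intro u hu
    have hU : ∀ c d, c ≠ 1 → Cls Γ c d → Cls Γ u c → Cls Γ u d := fun _ _ _ e e' => e'.trans e
    set x : MonoidAlgebra (ZMod p) D := ind (ZMod p) (spread Γ (Cls Γ u)) with hx
    have hI : InvA Γ x := invA_ind (inv_spread hΓ _)
    obtain ⟨k, hk⟩ := hp.odd_of_ne_two hp2
    have hrot : ∀ c, (x ^ p).coeff (rot c) = (cpart x ^ p).coeff c := by
      intro c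
      conv_lhs => rw [eq_parts x, pow_char p (bar_cpart hΓ hI)]
      rw [(congrArg (fun n => (Ref * iota (spart x)) ^ n) hk).trans (ref_iota_pow_odd _ k),
        coeff_add, Finsupp.add_apply, coeff_iota_rot, coeff_ref_iota_rot, add_zero]
    have hiff : ∀ c : C, spread Γ (Cls Γ u) (rot c) ↔ Cls Γ u c := fun c =>
      (spread_rot hU c).trans ⟨fun h => h.2, fun h => ⟨h.ne_one.1 hu, h⟩⟩
    refine ⟨fun c => (cpart x ^ p).coeff c, ?_, ?_, ?_⟩
    · intro c d hc e
      induction e with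
      | rel c d r =>
        rcases r.2.2 with e | e
        · obtain ⟨q, hq, hq', rfl⟩ := exists_prime_pow e m
          show (cpart x ^ p).coeff c = (cpart x ^ p).coeff (c ^ q)
          rw [coeff_pow_char, coeff_pow_char, Finset.sum_filter, Finset.sum_filter]
          refine Fintype.sum_equiv (powCoprime (coprime_of_gt hq' hq)) _ _ fun e => ?_
          rw [powCoprime_apply, ← pow_mul e q p, mul_comm q p, pow_mul,
            hx, coeff_cpart_ind, coeff_cpart_ind]
          simp only [rat_spread hU e (e ^ q) (orderOf_pow_gt hq' hq e).symm]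
          refine if_congr ⟨fun h => by rw [h], fun h => ?_⟩ rfl rfl
          exact (powCoprime (coprime_of_gt hq' hq)).injective h
        · show (cpart x ^ p).coeff c = (cpart x ^ p).coeff d
          rw [← hrot, ← hrot]
          exact (e.eq (hI.pow p)).symm
      | refl c => rfl
      | symm c d h ih => exact (ih ((Cls.ne_one h).2 hc)).symm
      | trans c d e h _ ih ih' => exact (ih hc).trans (ih' ((Cls.ne_one h).1 hc))
    · intro c _ hpc
      show (cpart x ^ p).coeff c = 0
      rw [coeff_pow_char]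
      rcases (univ.filter fun e : C => e ^ p = c).eq_empty_or_nonempty with h0 | ⟨e, he⟩
      · rw [h0, Finset.sum_empty]
      · simp only [mem_filter, mem_univ, true_and] at he
        subst he
        have hpe : ∀ f : C, f ^ p = e ^ p → orderOf f = p * orderOf (e ^ p) := fun f hf => by
          rw [← hf]
          refine orderOf_eq_mul_of_dvd hp (hpc.trans ?_)
          rw [← hf]
          exact orderOf_pow_dvd p
        rw [Finset.sum_congr rfl (g := fun _ => (cpart x).coeff e) fun f hf => ?_, Finset.sum_const,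
          (card_fibre hp ht e).1, (card_fibre hp ht e).2, nsmul_eq_mul, ZMod.natCast_self, zero_mul]
        simp only [mem_filter, mem_univ, true_and] at hf
        rw [hx, coeff_cpart_ind, coeff_cpart_ind]
        simp only [rat_spread hU f e ((hpe f hf).trans (hpe e rfl).symm)]
    · intro c hc hpc
      show (cpart x ^ p).coeff c = _
      have hcop : (orderOf c).Coprime p := by
        rw [Nat.coprime_comm]; exact hp.coprime_iff_not_dvd.2 hpc
      obtain ⟨j, hj⟩ := exists_pow_eq_self_of_coprime hcop.symm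
      have hro : orderOf (c ^ j) = orderOf c := by
        refine Nat.dvd_antisymm (orderOf_pow_dvd j) ?_
        conv_lhs => rw [← hj]
        rw [← pow_mul, mul_comm, pow_mul]
        exact orderOf_pow_dvd p
      have hr : (c ^ j) ^ p = c := by rw [← pow_mul, mul_comm, pow_mul]; exact hj
      rw [coeff_pow_char]
      have hfib := card_fibre hp ht (c ^ j)
      rw [hr] at hfib
      rw [hfib.1, Finset.sum_image (fun i hi i' hi' e => by
          rw [← ht] at hi hi'
          exact pow_injOn_Iio_orderOf (by simpa using hi) (by simpa using hi') (mul_left_cancel e)),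
        ← Finset.insert_erase (Finset.mem_range.2 hp.pos),
        Finset.sum_insert (Finset.notMem_erase 0 _), pow_zero, mul_one,
        Finset.sum_congr rfl (g := fun _ => (cpart x).coeff (c * t)) fun i hi => ?_, Finset.sum_const,
        Finset.card_erase_of_mem (Finset.mem_range.2 hp.pos), Finset.card_range, nsmul_eq_mul,
        Nat.cast_sub hp.one_le, ZMod.natCast_self, zero_sub, Nat.cast_one, neg_mul, one_mul,
        ← sub_eq_add_neg, hx, coeff_cpart_ind, coeff_cpart_ind]
      · simp only [rat_spread hU _ c hro]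
        simp only [hiff]
      · rw [Finset.mem_erase, Finset.mem_range] at hi
        have hti : orderOf (t ^ i) = p := by
          haveI : Fact p.Prime := ⟨hp⟩
          refine orderOf_eq_prime ?_ ?_
          · rw [← pow_mul, mul_comm, pow_mul, ← ht, pow_orderOf_eq_one, one_pow]
          · exact pow_ne_one_of_lt_orderOf hi.1 (ht ▸ hi.2)
        rw [hx, coeff_cpart_ind, coeff_cpart_ind]
        simp only [rat_spread hU (c ^ j * t ^ i) (c * t)
          (by rw [orderOf_mul_prime hp hti (hro ▸ hpc), orderOf_mul_prime hp ht hpc, hro])]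
  obtain ⟨F, hF, hF0, hF1⟩ := key h h1
  have e1 : F h' = 1 := by
    rw [← hF h h' h1 hcls, hF1 h h1 hfree, if_pos (Cls.refl' h), if_neg hne, sub_zero]
  have hfree' : ¬ p ∣ orderOf h' := fun hd => one_ne_zero (e1.symm.trans (hF0 h' hh' hd))
  refine ⟨hfree', ?_⟩
  have hht : h * t ≠ 1 := fun e => by
    have := orderOf_mul_prime hp ht hfree
    rw [e, orderOf_one] at this
    exact hp.ne_one (Nat.eq_one_of_mul_eq_one_left this.symm)
  obtain ⟨G, hG, -, hG1⟩ := key (h * t) hht
  have e2 : G h' = -1 := by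
    rw [← hG h h' h1 hcls, hG1 h h1 hfree, if_neg (fun e => hne e.symm), if_pos (Cls.refl' _),
      zero_sub]
  rw [hG1 h' hh' hfree'] at e2
  by_contra hcon
  rw [if_neg hcon, sub_zero] at e2
  haveI : Fact (2 < p) := ⟨lt_of_le_of_ne hp.two_le (Ne.symm hp2)⟩
  split_ifs at e2
  · exact ZMod.neg_one_ne_one e2.symm
  · exact one_ne_zero (neg_eq_zero.1 e2.symm)

/-- All elements of order divisible by an odd prime are in the class of an element of that order. -/
theorem cls_of_dvd (hm : 2 ≤ m) {p : ℕ} (hp : p.Prime) (hp2 : p ≠ 2) {t : C} (ht : orderOf t = p)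
    {c : C} (hc : p ∣ orderOf c) : Cls Γ t c := by
  have ht1 : t ≠ 1 := fun h => hp.ne_one (by rw [← ht, h, orderOf_one])
  let S : C → Prop := fun c => Cls Γ t c ∨ (¬ p ∣ orderOf c ∧ Cls Γ t (c * t))
  have hS : ∀ c d, c ≠ 1 → Cls Γ c d → S c → S d := by
    rintro c d hc e (h | ⟨hf, h⟩)
    · exact Or.inl (h.trans e)
    · by_cases hh : Cls Γ c (c * t)
      · exact Or.inl ((h.trans hh.symm).trans e)
      · obtain ⟨hf', h'⟩ := cls_translate hΓ hp hp2 ht hc hf e hh
        exact Or.inr ⟨hf', h.trans h'⟩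
  let U : C → Prop := fun c => ¬ S c
  have hU : ∀ c d, c ≠ 1 → Cls Γ c d → U c → U d := fun c d hc e h h' =>
    h (hS d c (e.ne_one.1 hc) e.symm h')
  have hfree : ∀ r, r ≠ 1 → ¬ p ∣ orderOf r → (S r ↔ Cls Γ t (r * t)) := by
    intro r hr hf
    refine ⟨?_, fun h => Or.inr ⟨hf, h⟩⟩
    rintro (h | ⟨-, h⟩)
    · by_cases hh : Cls Γ r (r * t)
      · exact h.trans hh
      · exact absurd ht.symm.dvd (cls_translate hΓ hp hp2 ht hr hf h.symm hh).1
    · exact h
  have hker : ∀ d : C, d ^ p = 1 → d ≠ 1 → S d := fun d hd hd1 => Or.inl (Cls.of_order ht1 (by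
    haveI : Fact p.Prime := ⟨hp⟩
    rw [ht, orderOf_eq_prime hd hd1]))
  have hper : ∀ c, (c * t ≠ 1 ∧ U (c * t)) ↔ (c ≠ 1 ∧ U c) := by
    intro c
    by_cases hc : c ^ p = 1
    · have hct : (c * t) ^ p = 1 := by rw [mul_pow, hc, one_mul, ← ht, pow_orderOf_eq_one]
      exact iff_of_false (fun h => h.2 (hker _ hct h.1)) fun h => h.2 (hker _ hc h.1)
    have hc1 : c ≠ 1 := fun h => hc (by rw [h, one_pow])
    have hct1 : c * t ≠ 1 := mul_ne_one_of ht hc
    rw [and_iff_right hc1, and_iff_right hct1]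
    refine not_congr ?_
    have hpw : (c * t) ^ p = c ^ p := by rw [mul_pow, ← ht, pow_orderOf_eq_one, mul_one]
    have hdd : ∀ a b : C, a ≠ 1 → p ∣ orderOf a → p ∣ orderOf b → a ^ p = b ^ p → Cls Γ a b :=
      fun a b ha h h' e => Cls.of_order ha (by
        rw [orderOf_eq_mul_of_dvd hp h, orderOf_eq_mul_of_dvd hp h', e])
    have hdiv : ∀ r, r ≠ 1 → p ∣ orderOf r → (S r ↔ Cls Γ t r) := fun r _ hd =>
      ⟨fun h => h.elim id fun h => absurd hd h.1, Or.inl⟩
    by_cases h1 : p ∣ orderOf c <;> by_cases h2 : p ∣ orderOf (c * t)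
    · exact ⟨hS _ _ hct1 (hdd _ _ hct1 h2 h1 hpw), hS _ _ hc1 (hdd _ _ hc1 h1 h2 hpw.symm)⟩
    · have h3 : p ∣ orderOf (c * t * t) := by
        rw [orderOf_mul_prime hp ht h2]; exact dvd_mul_left _ _
      have h4 := hdd (c * t * t) c (mul_ne_one_of ht (by rwa [hpw])) h3 h1
        (by rw [mul_pow, hpw, ← ht, pow_orderOf_eq_one, mul_one])
      rw [hfree _ hct1 h2, hdiv _ hc1 h1]
      exact ⟨fun h => h.trans h4, fun h => h.trans h4.symm⟩
    · rw [hfree _ hc1 h1, hdiv _ hct1 h2]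
    · exact absurd (by rw [orderOf_mul_prime hp ht h1]; exact dvd_mul_left _ _) h2
  have hempty := yset_empty hΓ hm hp ht (inv_spread hΓ U) (rat_spread hU)
    (fun d hd h => by
      rw [spread_rot hU] at h
      exact h.2 (hker d hd h.1))
    (fun d => by rw [spread_rot hU, spread_rot hU]; exact hper d) (fun h => absurd h hp2)
  have hc1 : c ≠ 1 := fun h => hp.ne_one (Nat.eq_one_of_dvd_one (by rwa [h, orderOf_one] at hc))
  by_contra hcon
  refine hempty (rot c) ((spread_rot hU c).2 ⟨hc1, ?_⟩)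
  rintro (h | ⟨h, -⟩)
  · exact hcon h
  · exact h hc

/-- All elements whose order has an odd prime divisor are in one class. -/
theorem cls_odd (hm : 2 ≤ m) {p q : ℕ} (hp : p.Prime) (hp2 : p ≠ 2) (hq : q.Prime) (hq2 : q ≠ 2)
    {c d : C} (hc : p ∣ orderOf c) (hd : q ∣ orderOf d) : Cls Γ c d := by
  obtain ⟨t, ht⟩ := exists_orderOf_eq hp (dvd_of_dvd_orderOf hc)
  obtain ⟨u, hu⟩ := exists_orderOf_eq hq (dvd_of_dvd_orderOf hd)
  have h1 := cls_of_dvd hΓ hm hp hp2 ht hc
  have h2 := cls_of_dvd hΓ hm hq hq2 hu hd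
  by_cases hpq : p = q
  · subst hpq
    exact (h1.symm.trans (cls_of_dvd hΓ hm hp hp2 ht hd))
  · have ho : orderOf (t * u) = p * q := by
      rw [(Commute.all t u).orderOf_mul_eq_mul_orderOf_of_coprime, ht, hu]
      rw [ht, hu]; exact (Nat.coprime_primes hp hq).2 hpq
    have h3 := cls_of_dvd hΓ hm hp hp2 ht (c := t * u) (by rw [ho]; exact dvd_mul_right _ _)
    have h4 := cls_of_dvd hΓ hm hq hq2 hu (c := t * u) (by rw [ho]; exact dvd_mul_left _ _)
    exact h1.symm.trans (h3.trans (h4.symm.trans h2))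

/-- There is only one class. -/
theorem cls_all (hm : 2 ≤ m) {c d : C} (hc : c ≠ 1) (hd : d ≠ 1) : Cls Γ c d := by
  have hodd : ∀ e : C, e ≠ 1 → ¬ 2 ∣ m → ∃ p, p.Prime ∧ p ≠ 2 ∧ p ∣ orderOf e := by
    intro e he h2
    obtain ⟨p, hp, hpe⟩ := Nat.exists_prime_and_dvd (mt orderOf_eq_one_iff.1 he)
    exact ⟨p, hp, fun h => h2 (h ▸ dvd_of_dvd_orderOf hpe), hpe⟩
  by_cases h2 : 2 ∣ m
  swap
  · obtain ⟨p, hp, hp2, hpc⟩ := hodd c hc h2
    obtain ⟨q, hq, hq2, hqd⟩ := hodd d hd h2
    exact cls_odd hΓ hm hp hp2 hq hq2 hpc hqd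
  obtain ⟨t, ht⟩ := exists_orderOf_eq Nat.prime_two h2
  haveI : Fact (Nat.Prime 2) := ⟨Nat.prime_two⟩
  have ht1 : t ≠ 1 := fun h => by rw [h, orderOf_one] at ht; omega
  let U : C → Prop := fun c => ¬ Cls Γ t c
  have hU : ∀ c d, c ≠ 1 → Cls Γ c d → U c → U d := fun c d _ e h h' => h (h'.trans e.symm)
  have hker : ∀ e : C, e ^ 2 = 1 → e ≠ 1 → Cls Γ t e := fun e he he1 =>
    Cls.of_order ht1 (by rw [ht, orderOf_eq_prime he he1])
  have hnear : ∀ e : C, e ^ 2 ≠ 1 → Cls Γ e (e * t) := by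
    intro e he
    have he1 : e ≠ 1 := fun h => he (by rw [h, one_pow])
    have hpw : (e * t) ^ 2 = e ^ 2 := by rw [mul_pow, ← ht, pow_orderOf_eq_one, mul_one]
    have het : e * t ≠ 1 := mul_ne_one_of ht he
    by_cases hq : ∃ q, q.Prime ∧ q ≠ 2 ∧ q ∣ orderOf e
    · obtain ⟨q, hq, hq2, hqe⟩ := hq
      refine cls_odd hΓ hm hq hq2 hq hq2 hqe ?_
      have h' := hqe
      rw [show orderOf e = orderOf (e * t * t) by
        rw [mul_assoc, ← sq, ← ht, pow_orderOf_eq_one, mul_one]] at h'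
      rcases dvd_of_dvd_mul hq h' with h | h
      · exact h
      · rw [ht] at h; exact absurd ((Nat.prime_dvd_prime_iff_eq hq Nat.prime_two).1 h) hq2
    · push Not at hq
      have hev : ∀ f : C, f ≠ 1 → (∀ q, q.Prime → q ≠ 2 → ¬ q ∣ orderOf f) → 2 ∣ orderOf f := by
        intro f hf hno
        obtain ⟨q, hq', hqf⟩ := Nat.exists_prime_and_dvd (mt orderOf_eq_one_iff.1 hf)
        by_cases h : q = 2
        · exact h ▸ hqf
        · exact absurd hqf (hno q hq' h)
      refine Cls.of_order he1 ?_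
      rw [orderOf_eq_mul_of_dvd Nat.prime_two (hev e he1 hq),
        orderOf_eq_mul_of_dvd Nat.prime_two (hev _ het fun q hq' hq2 h => ?_), hpw]
      rcases dvd_of_dvd_mul hq' h with h | h
      · exact hq q hq' hq2 h
      · rw [ht] at h; exact absurd ((Nat.prime_dvd_prime_iff_eq hq' Nat.prime_two).1 h) hq2
  obtain ⟨H, hH, hout⟩ : ∃ H : Subgroup C, H ≠ ⊤ ∧ ∀ a b, a ∉ H → b ∉ H → Cls Γ a b := by
    by_cases hq : ∃ q, q.Prime ∧ q ≠ 2 ∧ q ∣ m
    · obtain ⟨q, hq, hq2, hqm⟩ := hq
      let H : Subgroup C :=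
        { carrier := {a | ¬ q ∣ orderOf a}
          one_mem' := by simp [hq.ne_one]
          mul_mem' := fun {a b} ha hb h => (dvd_of_dvd_mul hq h).elim ha hb
          inv_mem' := fun {a} ha => by simpa using ha }
      obtain ⟨u, hu⟩ := exists_orderOf_eq hq hqm
      refine ⟨H, fun h => (h.ge (Subgroup.mem_top u)) hu.symm.dvd, fun a b ha hb => ?_⟩
      exact cls_odd hΓ hm hq hq2 hq hq2 (not_not.1 ha) (not_not.1 hb)
    · push Not at hq
      obtain ⟨g, hg⟩ := IsCyclic.exists_monoid_generator (α := C)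
      refine ⟨(powMonoidHom 2 : C →* C).range, fun h => ?_, fun a b ha hb => ?_⟩
      · have hsurj := MonoidHom.range_eq_top.1 h
        exact ht1 (Finite.injective_iff_surjective.2 hsurj
          (show t ^ 2 = (1 : C) ^ 2 by rw [one_pow, ← ht, pow_orderOf_eq_one]))
      · have hgen : ∀ a : C, a ∉ (powMonoidHom 2 : C →* C).range → orderOf a = orderOf g := by
          intro a ha
          obtain ⟨i, rfl⟩ := Submonoid.mem_powers_iff _ _ |>.1 (hg a)
          refine Nat.Coprime.orderOf_pow ?_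
          refine Nat.coprime_of_dvd fun q hq' hqo hqi => ?_
          by_cases h : q = 2
          · subst h
            obtain ⟨j, rfl⟩ := hqi
            exact ha ⟨g ^ j, by rw [powMonoidHom_apply, ← pow_mul, mul_comm]⟩
          · exact hq q hq' h (dvd_of_dvd_orderOf hqo)
        have ha1 : a ≠ 1 := fun h => ha (h ▸ one_mem _)
        exact Cls.of_order ha1 ((hgen a ha).trans (hgen b hb).symm)
  have hHcase : (∀ e, spread Γ U (rot e) → e ∈ H) ∨ ∀ e, ¬ spread Γ U (rot e) → e ∈ H := by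
    simp only [spread_rot hU]
    by_cases h : ∀ e, e ∉ H → Cls Γ t e
    · exact Or.inl fun e he => by_contra fun h' => he.2 (h e h')
    · push Not at h
      obtain ⟨a, ha, hta⟩ := h
      refine Or.inr fun e he => by_contra fun h' => he ⟨fun h1 => h' (h1 ▸ H.one_mem), ?_⟩
      exact fun hte => hta (hte.trans (hout e a h' ha))
  have hempty := yset_empty hΓ hm Nat.prime_two ht (inv_spread hΓ U) (rat_spread hU)
    (fun e he h => by
      rw [spread_rot hU] at h
      exact h.2 (hker e he h.1))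
    (fun e => by
      rw [spread_rot hU, spread_rot hU]
      by_cases he : e ^ 2 = 1
      · have het : (e * t) ^ 2 = 1 := by rw [mul_pow, he, one_mul, ← ht, pow_orderOf_eq_one]
        exact iff_of_false (fun h => h.2 (hker _ het h.1)) fun h => h.2 (hker _ he h.1)
      · have e1 := hnear e he
        have he1 : e ≠ 1 := fun h => he (by rw [h, one_pow])
        exact ⟨fun h => ⟨he1, hU _ _ h.1 e1.symm h.2⟩,
          fun h => ⟨e1.ne_one.1 he1, hU _ _ h.1 e1 h.2⟩⟩)
    (fun _ => ⟨H, hH, hHcase⟩)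
  have hall : ∀ e : C, e ≠ 1 → Cls Γ t e := fun e he => by
    by_contra h
    exact hempty (rot e) ((spread_rot hU e).2 ⟨he, h⟩)
  exact (hall c hc).symm.trans (hall d hd)

/-- The orbit of `rot c` as a finset. -/
noncomputable def orbF (Γ : Subgroup (Equiv.Perm D)) (d : D) : Finset D := univ.filter (Orb Γ d)

omit hΓ in
theorem orbF_eq_iff {d e : D} : orbF Γ d = orbF Γ e ↔ Orb Γ d e := by
  refine ⟨fun h => ?_, fun h => Finset.filter_congr fun y _ =>
    ⟨fun h' => h.symm.trans h', fun h' => h.trans h'⟩⟩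
  have : e ∈ orbF Γ e := by simp [orbF, Orb.refl']
  rw [← h] at this
  exact (mem_filter.1 this).2

/-- Orbits through rotations of equal order have equal size. -/
theorem orbit_le (hm : 2 ≤ m) {g h : C} (hg : g ≠ 1) (e : orderOf g = orderOf h) :
    #{d | Orb Γ (rot h) d} ≤ #{d | Orb Γ (rot g) d} ∧
      #{c | Orb Γ (rot h) (rot c)} ≤ #{c | Orb Γ (rot g) (rot c)} := by
  obtain ⟨q, hq, hq', rfl⟩ := exists_prime_pow e (2 * m)
  haveI : Fact q.Prime := ⟨hq'⟩
  have hmq : m < q := by omega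
  obtain ⟨k, hk⟩ := hq'.odd_of_ne_two (by omega)
  have hP : Inv Γ (Orb Γ (rot g)) := inv_orb hΓ _
  have h1 : ¬ Orb Γ (rot g) 1 := fun h => h.ne_one (rot_ne_one hg) rfl
  set x : MonoidAlgebra (ZMod q) D := ind (ZMod q) (Orb Γ (rot g)) with hx
  have hI : InvA Γ x := invA_ind hP
  have hrot : ∀ c, (x ^ q).coeff (rot (c ^ q)) = if Orb Γ (rot g) (rot c) then 1 else 0 := by
    intro c
    conv_lhs => rw [eq_parts x, pow_char q (bar_cpart hΓ hI)]
    rw [(congrArg (fun n => (Ref * iota (spart x)) ^ n) hk).trans (ref_iota_pow_odd _ k),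
      coeff_add, Finsupp.add_apply, coeff_iota_rot, coeff_ref_iota_rot, add_zero,
      coeff_pow_large hmq, hx, coeff_cpart_ind]
  have hsurj := (powCoprime (coprime_of_gt hq' hmq)).surjective
  have h01 : ∀ d, (x ^ q).coeff d = 0 ∨ (x ^ q).coeff d = 1 := by
    intro d
    by_contra hd
    by_cases hd1 : d = 1
    · have := hrot 1
      rw [one_pow, map_one, if_neg h1] at this
      exact hd (Or.inl (hd1 ▸ this))
    · obtain ⟨c, -, -, hc⟩ := exists_rot_of_inv hΓ hm
        (Inv.ne_one_and ((hI.pow q).comp fun r => ¬ (r = 0 ∨ r = 1))) (fun h => h.1 rfl)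
        (d := d) ⟨hd1, hd⟩
      obtain ⟨c', rfl⟩ := hsurj c
      rw [powCoprime_apply] at hc
      refine hc ?_
      rw [hrot]
      split_ifs <;> simp
  let T : D → Prop := fun d => (x ^ q).coeff d = 1
  have hT : Inv Γ T := (hI.pow q).comp fun r => r = 1
  have hgT : T (rot (g ^ q)) := by show _ = (1 : ZMod q); rw [hrot, if_pos (Orb.refl' _)]
  have hsub : ∀ d, Orb Γ (rot (g ^ q)) d → T d := fun d hd => (hd.eq hT).symm ▸ hgT
  have hcard : #{d | T d} = #{d | Orb Γ (rot g) d} := by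
    have h2 : ((#{d | T d} : ℕ) : ZMod q) = (#{d | Orb Γ (rot g) d} : ℕ) := by
      rw [← ZMod.pow_card ((#{d | Orb Γ (rot g) d} : ℕ) : ZMod q)]
      have : eps x = ((#{d | Orb Γ (rot g) d} : ℕ) : ZMod q) := by
        rw [eps_eq, Finset.natCast_card_filter]
        exact Finset.sum_congr rfl fun d _ => by rw [hx, coeff_ind]
      rw [← this, ← map_pow, eps_eq, Finset.natCast_card_filter]
      refine Finset.sum_congr rfl fun d _ => ?_
      rcases h01 d with h | h <;> simp [T, h]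
    have hu : Fintype.card D < q := by
      rwa [← Nat.card_eq_fintype_card, DihedralGroup.nat_card]
    have h3 := congrArg ZMod.val h2
    rwa [ZMod.val_natCast, ZMod.val_natCast, Nat.mod_eq_of_lt ((Finset.card_le_univ _).trans_lt hu),
      Nat.mod_eq_of_lt ((Finset.card_le_univ _).trans_lt hu)] at h3
  have hcard' : #{c : C | Orb Γ (rot g) (rot c)} = #{c : C | T (rot c)} := by
    refine Finset.card_equiv (powCoprime (coprime_of_gt hq' hmq)) fun c => ?_
    simp only [mem_filter, mem_univ, true_and, powCoprime_apply]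
    show _ ↔ _ = (1 : ZMod q)
    rw [hrot]
    split_ifs with h <;> simp [h]
  refine ⟨?_, ?_⟩
  · rw [← hcard]
    exact Finset.card_le_card fun d hd => by simp only [mem_filter] at hd ⊢; exact ⟨hd.1, hsub _ hd.2⟩
  · rw [hcard']
    exact Finset.card_le_card fun d hd => by simp only [mem_filter] at hd ⊢; exact ⟨hd.1, hsub _ hd.2⟩

/-- The stabilizer of a point is transitive on the other points. -/
theorem orb_of_ne_one {d e : D} (hd : d ≠ 1) (he : e ≠ 1) : Orb Γ d e := by
  by_cases hm : 2 ≤ m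
  swap
  · obtain rfl : m = 1 := by have := NeZero.pos m; omega
    have huniq : ∀ y : DihedralGroup 1, y ≠ 1 → y = refl 1 := fun y hy => by
      rcases rot_or_refl y with ⟨c, rfl⟩ | ⟨c, rfl⟩
      · exact absurd (by rw [Subsingleton.elim c 1, map_one]) hy
      · rw [Subsingleton.elim c 1]
    rw [huniq d hd, huniq e he]
    exact Orb.refl' _
  have hsame : ∀ c c' : C, c ≠ 1 → Cls Γ c c' →
      #(orbF Γ (rot c)) = #(orbF Γ (rot c')) ∧
      #{y : C | Orb Γ (rot c) (rot y)} = #{y : C | Orb Γ (rot c') (rot y)} := by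
    intro c c' hc h
    induction h with
    | rel c c' r =>
      rcases r.2.2 with h | h
      · have h1 := orbit_le hΓ hm r.1 h
        have h2 := orbit_le hΓ hm r.2.1 h.symm
        exact ⟨le_antisymm h2.1 h1.1, le_antisymm h2.2 h1.2⟩
      · refine ⟨by rw [orbF_eq_iff.2 h], congrArg Finset.card (Finset.filter_congr fun y _ => ?_)⟩
        exact ⟨fun h' => h.symm.trans h', fun h' => h.trans h'⟩
    | refl c => exact ⟨rfl, rfl⟩
    | symm c c' h ih => exact ⟨(ih ((Cls.ne_one h).2 hc)).1.symm, (ih ((Cls.ne_one h).2 hc)).2.symm⟩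
    | trans c c' c'' h _ ih ih' =>
      exact ⟨(ih hc).1.trans (ih' ((Cls.ne_one h).1 hc)).1,
        (ih hc).2.trans (ih' ((Cls.ne_one h).1 hc)).2⟩
  obtain ⟨c₀, hc₀, -⟩ := exists_rot_of_inv hΓ hm (inv_orb hΓ d) (fun h => h.ne_one hd rfl) (Orb.refl' d)
  set k := #(orbF Γ (rot c₀)) with hk
  set α := #{y : C | Orb Γ (rot c₀) (rot y)} with hα
  have hrep : ∀ y : D, y ≠ 1 → ∃ c, c ≠ 1 ∧ Orb Γ y (rot c) := fun y hy =>
    exists_rot_of_inv hΓ hm (inv_orb hΓ y) (fun h => h.ne_one hy rfl) (Orb.refl' y)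
  set s := (univ.erase (1 : D)).image (orbF Γ) with hs
  have h1 : #(univ.erase (1 : D)) = k * #s := by
    rw [Finset.card_eq_sum_card_image (orbF Γ), mul_comm, ← smul_eq_mul, ← Finset.sum_const]
    refine Finset.sum_congr rfl fun O hO => ?_
    obtain ⟨y, hy, rfl⟩ := Finset.mem_image.1 hO
    have hy1 : y ≠ 1 := Finset.ne_of_mem_erase hy
    obtain ⟨c, hc, hyc⟩ := hrep y hy1
    rw [hk, (hsame c₀ c hc₀ (cls_all hΓ hm hc₀ hc)).1, ← orbF_eq_iff.2 hyc]
    congr 1
    ext z
    simp only [mem_filter, mem_erase, mem_univ, and_true, orbF_eq_iff]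
    simp only [orbF, mem_filter, mem_univ, true_and]
    exact ⟨fun h => h.2.symm, fun h => ⟨h.ne_one hy1, h.symm⟩⟩
  have h2 : #(univ.erase (1 : C)) = α * #s := by
    have himg : (univ.erase (1 : C)).image (fun c => orbF Γ (rot c)) = s := by
      ext O
      simp only [hs, mem_image, mem_erase, mem_univ, and_true]
      constructor
      · rintro ⟨c, hc, rfl⟩; exact ⟨rot c, rot_ne_one hc, rfl⟩
      · rintro ⟨y, hy, rfl⟩
        obtain ⟨c, hc, hyc⟩ := hrep y hy
        exact ⟨c, hc, (orbF_eq_iff.2 hyc).symm⟩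
    rw [Finset.card_eq_sum_card_image (fun c => orbF Γ (rot c)), himg, mul_comm, ← smul_eq_mul,
      ← Finset.sum_const]
    refine Finset.sum_congr rfl fun O hO => ?_
    rw [← himg] at hO
    obtain ⟨c, hc, rfl⟩ := Finset.mem_image.1 hO
    have hc1 : c ≠ 1 := Finset.ne_of_mem_erase hc
    rw [hα, (hsame c₀ c hc₀ (cls_all hΓ hm hc₀ hc1)).2]
    congr 1
    ext z
    simp only [mem_filter, mem_erase, mem_univ, and_true, true_and, orbF_eq_iff]
    refine ⟨fun h => h.2.symm, fun h => ⟨?_, h.symm⟩⟩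
    intro hz
    rw [hz, map_one] at h
    exact h.ne_one (rot_ne_one hc1) rfl
  rw [Finset.card_erase_of_mem (mem_univ _), Finset.card_univ, ← Nat.card_eq_fintype_card,
    DihedralGroup.nat_card] at h1
  rw [Finset.card_erase_of_mem (mem_univ _), Finset.card_univ, card_rot] at h2
  have hdvd : #s ∣ 1 := by
    have e : k * #s = α * #s + (α * #s + 1) := by omega
    have d1 : #s ∣ α * #s := dvd_mul_left _ _
    exact (Nat.dvd_add_right d1).1 ((Nat.dvd_add_right d1).1 (e ▸ dvd_mul_left _ _))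
  have hone := Finset.card_le_one.1 (Nat.eq_one_of_dvd_one hdvd).le
  exact orbF_eq_iff.1 (hone _ (Finset.mem_image_of_mem _ (by simp [hd])) _
    (Finset.mem_image_of_mem _ (by simp [he])))

end CfsgLib.DihB
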