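import Cfsg.Agent.DihedralBGroup.Algebra
import Mathlib.NumberTheory.LSeries.PrimesInAP
import Mathlib.GroupTheory.SpecificGroups.Cyclic

/-!
# Rationality arguments for invariant sets
-/

set_option autoImplicit false
set_option linter.unusedSectionVars false

namespace CfsgLib.DihB

open MonoidAlgebra Finset
open scoped Classical

variable {m : ℕ} [NeZero m]

local notation "D" => DihedralGroup m
local notation "C" => Multiplicative (ZMod m)

/-- A function depending only on the order. -/
def Rat {β : Sort*} (f : C → β) : Prop := ∀ c d : C, orderOf c = orderOf d → f c = f d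

/-- The number of pairs in a set with given difference. -/
noncomputable def corr (Q : C → Prop) (c : C) : ℕ := #{e | Q e ∧ Q (e * c)}

theorem corr_le (Q : C → Prop) (c : C) : corr Q c ≤ m := by
  refine (Finset.card_le_univ _).trans (le_of_eq ?_)
  rw [← Nat.card_eq_fintype_card, Nat.card_congr Multiplicative.toAdd, Nat.card_zmod]

theorem coeff_bar_mul {R : Type*} [CommRing R] (u v : MonoidAlgebra R C) (c : C) :
    (bar u * v).coeff c = ∑ e, u.coeff e * v.coeff (e * c) := by
  rw [coeff_mul_group]
  refine Fintype.sum_equiv (Equiv.inv _) _ _ fun e => ?_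
  simp [coeff_bar]

theorem coeff_bar_mul_self {R : Type*} [CommRing R] {Q : C → Prop} {u : MonoidAlgebra R C}
    (hu : ∀ c, u.coeff c = if Q c then 1 else 0) (c : C) :
    (bar u * u).coeff c = (corr Q c : R) := by
  rw [coeff_bar_mul, corr, Finset.natCast_card_filter]
  refine Finset.sum_congr rfl fun e _ => ?_
  rw [hu, hu]
  by_cases h1 : Q e <;> by_cases h2 : Q (e * c) <;> simp [h1, h2]

theorem coeff_cpart_ind {R : Type*} [CommRing R] (P : D → Prop) (c : C) :
    (cpart (ind R P)).coeff c = if P (rot c) then 1 else 0 := by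
  rw [coeff_cpart, coeff_ind]

theorem coeff_spart_ind {R : Type*} [CommRing R] (P : D → Prop) (c : C) :
    (spart (ind R P)).coeff c = if P (refl c) then 1 else 0 := by
  rw [coeff_spart, coeff_ind]

theorem exists_pow_eq {g h : C} (e : orderOf g = orderOf h) :
    ∃ k, k.Coprime (orderOf g) ∧ g ^ k = h := by
  have hn : 0 < orderOf g := orderOf_pos g
  have hs : (Finset.range (orderOf g)).image (g ^ ·) = univ.filter fun x => x ^ orderOf g = 1 := by
    refine Finset.eq_of_subset_of_card_le ?_ ?_
    · intro x hx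
      obtain ⟨i, -, rfl⟩ := Finset.mem_image.1 hx
      simp only [mem_filter, mem_univ, true_and]
      rw [← pow_mul, mul_comm, pow_mul, pow_orderOf_eq_one, one_pow]
    · rw [Finset.card_image_of_injOn, Finset.card_range]
      · exact IsCyclic.card_pow_eq_one_le hn
      · intro i hi j hj hij
        exact pow_injOn_Iio_orderOf (by simpa using hi) (by simpa using hj) hij
  have hh : h ∈ univ.filter fun x => x ^ orderOf g = 1 := by simp [e, pow_orderOf_eq_one]
  rw [← hs] at hh
  obtain ⟨i, -, rfl⟩ := Finset.mem_image.1 hh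
  by_cases hi : i = 0
  · subst hi
    rw [pow_zero, orderOf_one] at e
    exact ⟨0, by rw [e]; exact Nat.coprime_one_right 0, rfl⟩
  · refine ⟨i, ?_, rfl⟩
    rw [orderOf_pow' g hi] at e
    rcases Nat.div_eq_self.1 e.symm with h0 | h1
    · omega
    · rw [Nat.coprime_comm]; exact h1

theorem exists_prime_pow {g h : C} (e : orderOf g = orderOf h) (N : ℕ) :
    ∃ q > N, q.Prime ∧ g ^ q = h := by
  obtain ⟨k, hk, rfl⟩ := exists_pow_eq e
  obtain ⟨q, hq, hq', hqk⟩ :=
    Nat.forall_exists_prime_gt_and_modEq N (orderOf_pos g).ne' hk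
  exact ⟨q, hq, hq', pow_eq_pow_iff_modEq.2 hqk⟩

theorem card_rot : Fintype.card C = m := by
  rw [← Nat.card_eq_fintype_card, Nat.card_congr Multiplicative.toAdd, Nat.card_zmod]

theorem coprime_of_gt {q : ℕ} (hq : q.Prime) (h : m < q) : (Nat.card C).Coprime q := by
  rw [Nat.card_eq_fintype_card, card_rot, Nat.coprime_comm]
  exact hq.coprime_iff_not_dvd.2 (Nat.not_dvd_of_pos_of_lt (NeZero.pos m) h)

theorem orderOf_pow_gt {q : ℕ} (hq : q.Prime) (h : m < q) (c : C) : orderOf (c ^ q) = orderOf c :=
  Nat.Coprime.orderOf_pow ((coprime_of_gt hq h).coprime_dvd_left (orderOf_dvd_natCard c))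

theorem coeff_pow_large {q : ℕ} [Fact q.Prime] (h : m < q) (a : MonoidAlgebra (ZMod q) C) (c : C) :
    (a ^ q).coeff (c ^ q) = a.coeff c := by
  rw [coeff_pow_char]
  have : univ.filter (fun d : C => d ^ q = c ^ q) = {c} := by
    ext d
    simp only [mem_filter, mem_univ, true_and, mem_singleton]
    exact ⟨fun hd => (powCoprime (coprime_of_gt Fact.out h)).injective hd, fun hd => by rw [hd]⟩
  rw [this, Finset.sum_singleton]

variable {Γ : Subgroup (Equiv.Perm (DihedralGroup m))} (hΓ : Prim Γ)
include hΓ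

/-- If the rotation part is rational, so is the correlation of the reflection part. -/
theorem rat_corr_refl (hm : 2 ≤ m) {P : D → Prop} (hP : Inv Γ P)
    (ha : Rat fun c => P (rot c)) : Rat (corr fun c => P (refl c)) := by
  intro g h e
  obtain ⟨q, hq, hq', rfl⟩ := exists_prime_pow e (2 * m)
  haveI : Fact q.Prime := ⟨hq'⟩
  obtain ⟨k, hk⟩ := hq'.odd_of_ne_two (by omega)
  have hmq : m < q := by omega
  set x : MonoidAlgebra (ZMod q) D := ind (ZMod q) P with hx
  set a := cpart x with ha'
  set b := spart x with hb'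
  have hI : InvA Γ x := invA_ind hP
  have haa : a ^ q = a := by
    refine MonoidAlgebra.coeff_injective (Finsupp.ext fun c => ?_)
    obtain ⟨d, rfl⟩ := (powCoprime (coprime_of_gt hq' hmq)).surjective c
    rw [powCoprime_apply, coeff_pow_large hmq, ha', hx, coeff_cpart_ind, coeff_cpart_ind]
    simp only [ha d (d ^ q) (orderOf_pow_gt hq' hmq d).symm]
  have hxq : x ^ q = iota a + Ref * iota ((bar b * b) ^ k * b) := by
    conv_lhs => rw [eq_parts x, pow_char q (bar_cpart hΓ hI), ← ha', haa, ← hb']
    rw [(congrArg (fun n => (Ref * iota b) ^ n) hk).trans (ref_iota_pow_odd b k)]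
  have hB : (bar b * b) ^ k * b = b := by
    refine MonoidAlgebra.coeff_injective (Finsupp.ext fun c => ?_)
    have hz := eq_zero_of_rot hΓ hm ((hI.pow q).sub hI) (fun d _ => ?_) (refl_ne_one c)
    · simp only [coeff_sub, Finsupp.sub_apply, sub_eq_zero] at hz
      rw [hxq, coeff_add, Finsupp.add_apply, coeff_iota_refl, coeff_ref_iota_refl, zero_add] at hz
      rw [hz, hb', coeff_spart]
    · simp only [coeff_sub, Finsupp.sub_apply, sub_eq_zero]
      rw [hxq, coeff_add, Finsupp.add_apply, coeff_iota_rot, coeff_ref_iota_rot, add_zero, ha',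
        coeff_cpart]
  have hBq : (bar b * b) ^ q = bar b * b := by
    have hbB : bar (bar b * b) = bar b * b := by rw [map_mul, bar_bar, mul_comm]
    calc (bar b * b) ^ q = bar ((bar b * b) ^ k * b) * ((bar b * b) ^ k * b) := by
          rw [map_mul, map_pow, hbB]
          exact (congrArg (fun n => (bar b * b) ^ n) hk).trans (by ring)
      _ = bar b * b := by rw [hB]
  have hb : ∀ c, b.coeff c = if P (refl c) then 1 else 0 := fun c => by
    rw [hb', hx, coeff_spart_ind]
  have := coeff_pow_large hmq (bar b * b) g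
  rw [hBq, coeff_bar_mul_self hb, coeff_bar_mul_self hb] at this
  have h2 := congrArg ZMod.val this
  rwa [ZMod.val_natCast, ZMod.val_natCast, Nat.mod_eq_of_lt ((corr_le _ _).trans_lt hmq),
    Nat.mod_eq_of_lt ((corr_le _ _).trans_lt hmq), eq_comm] at h2

omit hΓ in
/-- The correlation of a rational set is rational. -/
theorem rat_corr {Q : C → Prop} (hQ : Rat Q) : Rat (corr Q) := by
  intro g h e
  obtain ⟨q, hq, hq', rfl⟩ := exists_prime_pow e m
  refine Finset.card_equiv (powCoprime (coprime_of_gt hq' hq)) fun c => ?_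
  simp only [mem_filter, mem_univ, true_and, powCoprime_apply, ← mul_pow]
  rw [hQ c (c ^ q) (orderOf_pow_gt hq' hq c).symm,
    hQ (c * g) ((c * g) ^ q) (orderOf_pow_gt hq' hq _).symm]

omit hΓ in
/-- The roots of an element differ by an element of order dividing `p`. -/
theorem card_fibre_le {p : ℕ} (hp : 0 < p) (h : C) : #{c : C | c ^ p = h} ≤ p := by
  rcases (univ.filter fun c : C => c ^ p = h).eq_empty_or_nonempty with h0 | ⟨c, hc⟩
  · simp [h0]
  · refine le_trans ?_ (IsCyclic.card_pow_eq_one_le (α := C) hp)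
    refine Finset.card_le_card_of_injOn (fun d => d / c) (fun d hd => ?_) (by simp)
    simp only [mem_filter, mem_univ, true_and, coe_filter, Set.mem_setOf_eq] at hc hd ⊢
    rw [div_pow, hd, hc, div_self']

omit hΓ in
theorem card_fibre {p : ℕ} (hp : p.Prime) {t : C} (ht : orderOf t = p) (c : C) :
    univ.filter (fun d : C => d ^ p = c ^ p) = (Finset.range p).image (fun i => c * t ^ i) ∧
      #((Finset.range p).image (fun i => c * t ^ i)) = p := by
  have hcard : #((Finset.range p).image (fun i => c * t ^ i)) = p := by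
    rw [Finset.card_image_of_injOn, Finset.card_range]
    intro i hi j hj hij
    rw [← ht] at hi hj
    exact pow_injOn_Iio_orderOf (by simpa using hi) (by simpa using hj) (mul_left_cancel hij)
  refine ⟨(Finset.eq_of_subset_of_card_le ?_ ?_).symm, hcard⟩
  · intro x hx
    obtain ⟨i, -, rfl⟩ := Finset.mem_image.1 hx
    simp only [mem_filter, mem_univ, true_and]
    rw [mul_pow, ← pow_mul, mul_comm i, pow_mul, ← ht, pow_orderOf_eq_one, one_pow, mul_one]
  · rw [hcard]; exact card_fibre_le hp.pos _

omit hΓ in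
theorem eq_pow_of_pow_eq_one {p : ℕ} (hp : p.Prime) {t : C} (ht : orderOf t = p) {c : C}
    (hc : c ^ p = 1) : ∃ i, t ^ i = c := by
  have : c ∈ univ.filter (fun d : C => d ^ p = (1 : C) ^ p) := by simp [hc]
  rw [(card_fibre hp ht 1).1] at this
  obtain ⟨i, -, hi⟩ := Finset.mem_image.1 this
  exact ⟨i, by simpa using hi⟩

omit hΓ in
theorem periodic_pow {Q : C → Prop} {t : C} (h : ∀ c, Q (c * t) ↔ Q c) (c : C) (i : ℕ) :
    Q (c * t ^ i) ↔ Q c := by
  induction i with
  | zero => simp
  | succ i ih => rw [pow_succ, ← mul_assoc, h, ih]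

omit hΓ in
/-- A set stable under a translation of prime order has cardinality divisible by it. -/
theorem dvd_card_periodic {p : ℕ} (hp : p.Prime) {t : C} (ht : orderOf t = p) {Q : C → Prop}
    (h : ∀ c, Q (c * t) ↔ Q c) : p ∣ #{c | Q c} := by
  rw [Finset.card_eq_sum_card_image (fun c : C => c ^ p)]
  refine Finset.dvd_sum fun y hy => ?_
  obtain ⟨c, hc, rfl⟩ := Finset.mem_image.1 hy
  have : (univ.filter Q).filter (fun d => d ^ p = c ^ p) = univ.filter fun d => d ^ p = c ^ p := by
    rw [Finset.filter_filter]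
    refine Finset.filter_congr fun d _ => and_iff_right_of_imp fun hd => ?_
    have : d ∈ univ.filter (fun d : C => d ^ p = c ^ p) := by simp [hd]
    rw [(card_fibre hp ht c).1] at this
    obtain ⟨i, -, rfl⟩ := Finset.mem_image.1 this
    exact (periodic_pow h c i).2 (by simpa using hc)
  rw [this, (card_fibre hp ht c).1, (card_fibre hp ht c).2]

/-- An invariant set with periodic reflection part, avoiding the subgroup of order `p`, is empty. -/
theorem empty_of_periodic {p : ℕ} (hp : p.Prime) {t : C} (ht : orderOf t = p) {P : D → Prop}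
    (hP : Inv Γ P) (h1 : ∀ c : C, c ^ p = 1 → ¬ P (rot c))
    (hb : ∀ c, P (refl (c * t)) ↔ P (refl c)) (d : D) : ¬ P d := by
  intro hd
  haveI : Fact p.Prime := ⟨hp⟩
  have h10 : ¬ P 1 := fun h => h1 1 (one_pow p) (by rwa [map_one])
  set x : MonoidAlgebra (ZMod p) D := ind (ZMod p) P with hx
  have hI : InvA Γ x := invA_ind hP
  have hB : bar (spart x) * spart x = 0 := by
    refine MonoidAlgebra.coeff_injective (Finsupp.ext fun c => ?_)
    rw [coeff_bar_mul_self (fun e => by rw [hx, coeff_spart_ind]), coeff_zero, Finsupp.zero_apply,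
      ZMod.natCast_eq_zero_iff] 
    rw [corr]
    convert dvd_card_periodic hp ht (Q := fun e => P (refl e) ∧ P (refl (e * c))) fun e => by
      rw [hb, mul_right_comm, hb]
  have hxp : x ^ p = iota (cpart x ^ p) := by
    conv_lhs => rw [eq_parts x, pow_char p (bar_cpart hΓ hI)]
    rw [ref_iota_pow_eq_zero hp.two_le hB, add_zero]
  have hz : ∀ c : C, c ≠ 1 → (cpart x ^ p).coeff c = 0 := by
    intro c hc
    by_contra hne
    obtain ⟨e, he⟩ := exists_refl_of_inv hΓ
      (Inv.ne_one_and ((hI.pow p).comp fun r => r ≠ 0)) (fun h => h.1 rfl) (d := rot c)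
      ⟨rot_ne_one hc, by rw [hxp, coeff_iota_rot]; exact hne⟩
    exact he.2 (by rw [hxp, coeff_iota_refl])
  have hper : ∀ c i, P (rot c) → P (rot (c * t ^ i)) := by
    intro c i hc
    have hcp : c ^ p ≠ 1 := fun h => h1 c h hc
    have h2 := hz _ hcp
    rw [coeff_pow_char] at h2
    simp only [hx, coeff_cpart_ind] at h2
    rw [← Finset.natCast_card_filter, ZMod.natCast_eq_zero_iff, Finset.filter_filter] at h2
    have hpos : 0 < #{d : C | d ^ p = c ^ p ∧ P (rot d)} :=
      Finset.card_pos.2 ⟨c, by simp [hc]⟩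
    have hle := Nat.le_of_dvd hpos h2
    have heq := Finset.eq_of_subset_of_card_le (s := univ.filter fun d => d ^ p = c ^ p ∧ P (rot d))
      (t := univ.filter fun d : C => d ^ p = c ^ p)
      (fun d hd => by simp only [mem_filter] at hd ⊢; exact ⟨hd.1, hd.2.1⟩)
      ((card_fibre_le hp.pos _).trans hle)
    have : c * t ^ i ∈ univ.filter fun d : C => d ^ p = c ^ p := by
      simp only [mem_filter, mem_univ, true_and]
      rw [mul_pow, ← pow_mul, mul_comm i, pow_mul, ← ht, pow_orderOf_eq_one, one_pow, mul_one]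
    rw [← heq] at this
    exact (mem_filter.1 this).2.2
  have hiff : ∀ c, P (rot (c * t)) ↔ P (rot c) := fun c => by
    refine ⟨fun h => ?_, fun h => by simpa using hper c 1 h⟩
    have := hper (c * t) (p - 1) h
    rwa [mul_assoc, ← pow_succ', Nat.sub_add_cancel hp.one_le, ← ht, pow_orderOf_eq_one,
      mul_one] at this
  have ht1 : (rot t)⁻¹ ≠ 1 := by
    rw [inv_ne_one]
    exact rot_ne_one fun h => hp.ne_one (by rw [← ht, h, orderOf_one])
  refine translate_ne hΓ hP h10 hd ht1 fun y => ?_
  rw [inv_inv]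
  rcases rot_or_refl y with ⟨c, rfl⟩ | ⟨c, rfl⟩
  · rw [← map_mul, mul_comm t c]; exact hiff c
  · rw [rot_mul_refl]
    have := hb (c / t)
    rw [div_mul_cancel] at this
    exact this.symm

end CfsgLib.DihB
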