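import Cfsg.Agent.DihedralBGroup.Main
import Mathlib.GroupTheory.GroupAction.MultipleTransitivity
import Mathlib.GroupTheory.GroupAction.Primitive

/-!
# Primitive groups with a regular dihedral subgroup
-/

set_option autoImplicit false

namespace CfsgLib.DihB

open MulAction

theorem two_transitive {G Ω : Type*} [Group G] [Finite G] [MulAction G Ω]
    (hprim : IsPreprimitive G Ω) (H : Subgroup G) (m : ℕ) (ψ : H ≃* DihedralGroup m)
    (htr : IsPretransitive H Ω) (hfree : ∀ a : Ω, stabilizer H a = ⊥) :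
    IsMultiplyPretransitive G Ω 2 := by
  have hm0 : m ≠ 0 := by
    intro hm
    have h1 : Nat.card (DihedralGroup m) = Nat.card H := Nat.card_congr ψ.toEquiv.symm
    rw [DihedralGroup.nat_card, hm] at h1
    exact (Nat.card_pos (α := H)).ne (by omega)
  haveI : NeZero m := ⟨hm0⟩
  rw [is_two_pretransitive_iff]
  intro a b c d hab hcd
  let f : DihedralGroup m → Ω := fun x => ((ψ.symm x : H) : G) • a
  have hf : Function.Bijective f := by
    refine ⟨fun x y h => ?_, fun w => ?_⟩
    · have h' : (ψ.symm y)⁻¹ * ψ.symm x ∈ stabilizer H a := by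
        rw [mem_stabilizer_iff, mul_smul, inv_smul_eq_iff]
        exact h
      rw [hfree, Subgroup.mem_bot, inv_mul_eq_one] at h'
      exact ψ.symm.injective h'.symm
    · obtain ⟨k, hk⟩ := @exists_smul_eq H Ω _ htr a w
      exact ⟨ψ k, (congrArg (fun z : H => (z : G) • a) (ψ.symm_apply_apply k)).trans hk⟩
  let e : DihedralGroup m ≃ Ω := Equiv.ofBijective f hf
  have he : ∀ x, e x = ((ψ.symm x : H) : G) • a := fun _ => rfl
  let φ : G →* Equiv.Perm (DihedralGroup m) :=
    MonoidHom.mk' (fun g => (e.trans (MulAction.toPerm g)).trans e.symm) fun g k => by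
      ext x; simp [mul_smul]
  have hφ : ∀ g x, e (φ g x) = g • e x := fun g x => e.apply_symm_apply _
  let Γ : Subgroup (Equiv.Perm (DihedralGroup m)) := φ.range
  have hleft : ∀ x, Equiv.mulLeft x ∈ Γ := fun x => ⟨(ψ.symm x : G), by
    refine Equiv.ext fun y => e.injective ?_
    rw [hφ, Equiv.coe_mulLeft, he, he, map_mul, Subgroup.coe_mul, mul_smul]⟩
  have hΓ : Prim Γ := by
    refine ⟨hleft, fun r hr hinv => ?_⟩
    let R : Ω → Ω → Prop := fun u v => r (e.symm u) (e.symm v)
    have hR : ∀ (g : G) u v, R u v → R (g • u) (g • v) := fun g u v h => by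
      have := hinv (φ g) ⟨g, rfl⟩ _ _ h
      have e1 : ∀ w, φ g (e.symm w) = e.symm (g • w) := fun w => by
        rw [Equiv.eq_symm_apply, hφ, Equiv.apply_symm_apply]
      rwa [e1, e1] at this
    let B : Set Ω := {w | R a w}
    have hB : IsBlock G B := by
      rw [isBlock_iff_smul_eq_or_disjoint]
      intro g
      by_cases hg : R a (g • a)
      · refine Or.inl (Set.ext fun w => ?_)
        rw [Set.mem_smul_set_iff_inv_smul_mem]
        refine ⟨fun h => ?_, fun h => ?_⟩
        · have := hR g _ _ h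
          rw [smul_inv_smul] at this
          exact hr.trans hg this
        · have := hR g⁻¹ _ _ (hr.trans (hr.symm hg) h)
          rwa [inv_smul_smul] at this
      · refine Or.inr (Set.disjoint_left.2 fun w h1 h2 => hg ?_)
        rw [Set.mem_smul_set_iff_inv_smul_mem] at h1
        have := hR g _ _ h1
        rw [smul_inv_smul] at this
        exact hr.trans h2 (hr.symm this)
    have hpre : ∀ x, ∃ g : G, g • a = e x := fun x => ⟨_, (he x).symm⟩
    have key : ∀ x y, r x y → ∃ g : G, g • a = e x ∧ g⁻¹ • e y ∈ B := by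
      intro x y h
      obtain ⟨g, hg⟩ := hpre x
      refine ⟨g, hg, ?_⟩
      have := hR g⁻¹ (e x) (e y) (by simpa [R] using h)
      rwa [← hg, inv_smul_smul] at this
    rcases hprim.isTrivialBlock_of_isBlock hB with h | h
    · refine Or.inl fun x y hxy => ?_
      obtain ⟨g, hg, hy⟩ := key x y hxy
      have := h hy (show a ∈ B from hr.refl _)
      rw [inv_smul_eq_iff, hg] at this
      exact (e.injective this).symm
    · refine Or.inr fun x y => ?_
      have hall : ∀ w, r (e.symm a) w := fun w => by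
        have : e w ∈ B := h ▸ Set.mem_univ _
        simpa [B, R] using this
      exact hr.trans (hr.symm (hall x)) (hall y)
  obtain ⟨x, hx⟩ := e.surjective a
  obtain ⟨y, hy⟩ := e.surjective b
  obtain ⟨u, hu⟩ := e.surjective c
  obtain ⟨v, hv⟩ := e.surjective d
  obtain ⟨k, ⟨g, rfl⟩, hk1, hk2⟩ := orb_of_ne_one hΓ (d := x⁻¹ * y) (e := u⁻¹ * v)
    (fun h => hab (hx ▸ hy ▸ congrArg e (inv_mul_eq_one.1 h)))
    (fun h => hcd (hu ▸ hv ▸ congrArg e (inv_mul_eq_one.1 h)))
  obtain ⟨g₁, hg₁⟩ := hleft x⁻¹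
  obtain ⟨g₂, hg₂⟩ := hleft u
  refine ⟨g₂ * g * g₁, ?_, ?_⟩
  · conv_lhs => rw [← hx]
    rw [← hu, ← hφ, map_mul, map_mul, hg₁, hg₂]
    simp [hk1]
  · conv_lhs => rw [← hy]
    rw [← hv, ← hφ, map_mul, map_mul, hg₁, hg₂]
    simp [hk2]

end CfsgLib.DihB
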