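import Cfsg.Agent.DihedralBGroup.Eight

/-!
# A rational periodic invariant set is empty
-/

set_option autoImplicit false
set_option linter.unusedSectionVars false

namespace CfsgLib.DihB

open MonoidAlgebra Finset
open scoped Classical

variable {m : ℕ} [NeZero m]

local notation "D" => DihedralGroup m
local notation "C" => Multiplicative (ZMod m)
local notation "A" => MonoidAlgebra ℤ C

/-- The sum of all the rotations. -/
noncomputable def allC : MonoidAlgebra ℤ (Multiplicative (ZMod m)) := ofFun fun _ => 1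

theorem coeff_allC (c : C) : (allC : A).coeff c = 1 := coeff_ofFun _ c

theorem coeff_intCast_mul (n : ℤ) (x : A) (c : C) : ((n : A) * x).coeff c = n * x.coeff c := by
  rw [← zsmul_eq_mul, coeff_smul, Finsupp.smul_apply, smul_eq_mul]

theorem coeff_intCast (n : ℤ) (c : C) : (n : A).coeff c = if c = 1 then n else 0 := by
  rw [← mul_one (n : A), coeff_intCast_mul, MonoidAlgebra.one_def, coeff_single, Finsupp.single_apply]
  split_ifs <;> simp_all

theorem mul_allC (x : A) : x * allC = ((eps x : ℤ) : A) * allC := by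
  refine MonoidAlgebra.coeff_injective (Finsupp.ext fun c => ?_)
  rw [coeff_intCast_mul, coeff_mul_group, eps_eq]
  simp [coeff_allC]

theorem eps_allC : eps (allC : A) = (m : ℤ) := by
  rw [eps_eq]
  simp [coeff_allC]

theorem allC_mul_allC : (allC : A) * allC = ((m : ℤ) : A) * allC := by rw [mul_allC, eps_allC]

theorem eps_bar (x : A) : eps (bar x) = eps x := by
  rw [eps_eq, eps_eq]
  exact Fintype.sum_equiv (Equiv.inv _) _ _ fun c => coeff_bar x c

theorem translate_allC (t : C) : single t 1 * (allC : A) = allC := by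
  rw [mul_allC]
  simp [eps, lift_single]

/-- The bound from the idempotent built out of the rotation part. -/
theorem periodic_bound {p : ℕ} (hp : p.Prime) {t : C} (ht : orderOf t = p) {a : A} {s k α : ℤ}
    (hbar : bar a = a) (hT : single t 1 * a = a) (h01 : ∀ c, a.coeff c * a.coeff c = a.coeff c)
    (hα : eps a = α) (h3 : 2 * a ^ 3 = 2 * (s : A) * a + (k : A) * allC) :
    (p : ℤ) * (α * (m - α) + s) ^ 2 ≤ m * s * (α * (m - α) + s) := by
  have hkk : 2 * α ^ 3 = 2 * s * α + k * (m : ℤ) := by
    have := congrArg eps h3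
    simp only [map_mul, map_pow, map_add, map_ofNat, map_intCast, hα, eps_allC] at this
    simpa using this
  have hk : 2 * (α : A) ^ 3 = 2 * (s : A) * (α : A) + (k : A) * ((m : ℤ) : A) := by
    have := congrArg (fun z : ℤ => (z : A)) hkk
    push_cast at this ⊢
    exact this
  have haS : a * allC = (α : A) * allC := by rw [mul_allC, hα]
  set ab : A := ((m : ℤ) : A) * a - (α : A) * allC with hab
  have habS : ab * allC = 0 := by
    rw [hab]; linear_combination ((m : ℤ) : A) * haS - (α : A) * allC_mul_allC (m := m)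
  have haaS : a * a * allC = (α : A) * (α : A) * allC := by
    linear_combination a * haS + (α : A) * haS
  have haSS : a * (allC * allC) = (α : A) * ((m : ℤ) : A) * allC := by
    linear_combination a * allC_mul_allC (m := m) + ((m : ℤ) : A) * haS
  have hSSS : (allC : A) * allC * allC = ((m : ℤ) : A) * ((m : ℤ) : A) * allC := by
    linear_combination allC * allC_mul_allC (m := m) + ((m : ℤ) : A) * allC_mul_allC (m := m)
  have hG : 2 * ab ^ 3 = 2 * ((m : ℤ) : A) ^ 2 * (s : A) * ab := by
    rw [hab]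
    linear_combination ((m : ℤ) : A) ^ 3 * h3 - 6 * ((m : ℤ) : A) ^ 2 * (α : A) * haaS +
      6 * ((m : ℤ) : A) * (α : A) ^ 2 * haSS - 2 * (α : A) ^ 3 * hSSS -
      ((m : ℤ) : A) ^ 2 * allC * hk
  set e : A := ab * ab + ((m : ℤ) : A) * (s : A) * allC with he
  have hee : 2 * (e * e) = 2 * ((((m : ℤ) ^ 2 * s : ℤ) : A) * e) := by
    rw [he]
    push_cast at hG habS ⊢
    linear_combination ab * hG + 4 * (m : A) * (s : A) * ab * habS +
      2 * (m : A) ^ 2 * (s : A) ^ 2 * allC_mul_allC (m := m)
  have hbS : bar (allC : A) = allC := by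
    refine MonoidAlgebra.coeff_injective (Finsupp.ext fun c => ?_)
    rw [coeff_bar, coeff_allC, coeff_allC]
  have hbab : bar ab = ab := by
    rw [hab, map_sub, map_mul, map_mul, map_intCast, map_intCast, hbar, hbS]
  have hbe : bar e = e := by
    rw [he, map_add, map_mul, map_mul, map_mul, map_intCast, map_intCast, hbab, hbS]
  have hTab : single t 1 * ab = ab := by
    rw [hab]
    linear_combination ((m : ℤ) : A) * hT - (α : A) * translate_allC t
  have hTe : single t 1 * e = e := by
    rw [he]
    linear_combination ab * hTab + ((m : ℤ) : A) * (s : A) * translate_allC t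
  have hper : ∀ i, e.coeff (t ^ i) = e.coeff 1 := by
    intro i
    induction i with
    | zero => rw [pow_zero]
    | succ i ih =>
      rw [← ih]
      conv_lhs => rw [← hTe]
      rw [coeff_mul_group, Finset.sum_eq_single t]
      · simp [pow_succ']
      · intro w _ hw; simp [coeff_single, Ne.symm hw]
      · simp
  have he1 : e.coeff 1 = (m : ℤ) * (α * (m - α) + s) := by
    have hsq : (ab * ab).coeff 1 = ∑ c, ab.coeff c * ab.coeff c := by
      conv_lhs => arg 1; arg 1; arg 1; rw [← hbab]
      rw [coeff_bar_mul]; simp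
    have hc : ∀ c, ab.coeff c * ab.coeff c = ((m : ℤ) ^ 2 - 2 * m * α) * a.coeff c + α * α := by
      intro c
      rw [hab, coeff_sub, Finsupp.sub_apply, coeff_intCast_mul, coeff_intCast_mul, coeff_allC]
      linear_combination (m : ℤ) ^ 2 * h01 c
    rw [he, coeff_add, Finsupp.add_apply, hsq, Finset.sum_congr rfl fun c _ => hc c,
      Finset.sum_add_distrib, ← Finset.mul_sum, ← eps_eq, hα, Finset.sum_const, Finset.card_univ,
      card_rot, mul_assoc ((m : ℤ) : A), coeff_intCast_mul, coeff_intCast_mul, coeff_allC,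
      nsmul_eq_mul]
    ring
  have hsum : (m : ℤ) ^ 2 * s * e.coeff 1 = ∑ c, e.coeff c * e.coeff c := by
    have h2 := congrArg (fun x : A => x.coeff 1) hee
    simp only [two_mul, coeff_add, Finsupp.add_apply, coeff_intCast_mul] at h2
    have : (e * e).coeff 1 = ∑ c, e.coeff c * e.coeff c := by
      conv_lhs => arg 1; arg 1; arg 1; rw [← hbe]
      rw [coeff_bar_mul]; simp
    linarith
  have hle : (p : ℤ) * (e.coeff 1 * e.coeff 1) ≤ ∑ c, e.coeff c * e.coeff c := by
    refine le_trans (le_of_eq ?_) (Finset.sum_le_sum_of_subset_of_nonneg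
      (s := (Finset.range p).image (fun i => (1 : C) * t ^ i)) (subset_univ _)
      fun c _ _ => mul_self_nonneg _)
    rw [Finset.sum_congr rfl (g := fun _ => e.coeff 1 * e.coeff 1) fun c hc => ?_,
      Finset.sum_const, (card_fibre hp ht 1).2, nsmul_eq_mul]
    obtain ⟨i, -, rfl⟩ := Finset.mem_image.1 hc
    rw [one_mul, hper]
  rw [← hsum, he1] at hle
  have hm : (0 : ℤ) < (m : ℤ) ^ 2 := pow_pos (by exact_mod_cast NeZero.pos m) 2
  nlinarith

/-- A product of elements supported in a subgroup is supported there. -/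
theorem coeff_mul_supp {H : Subgroup C} {u v : A} (hu : ∀ c, c ∉ H → u.coeff c = 0)
    (hv : ∀ c, c ∉ H → v.coeff c = 0) {c : C} (hc : c ∉ H) : (u * v).coeff c = 0 := by
  rw [coeff_mul_group]
  refine Finset.sum_eq_zero fun w _ => ?_
  by_cases hw : w ∈ H
  · rw [hv (w⁻¹ * c) (fun h => hc (by simpa using H.mul_mem hw h)), mul_zero]
  · rw [hu w hw, zero_mul]

theorem coeff_cube_supp {H : Subgroup C} {u : A} (hu : ∀ c, c ∉ H → u.coeff c = 0) {c : C}
    (hc : c ∉ H) : (u ^ 3).coeff c = 0 := by
  rw [pow_three]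
  exact coeff_mul_supp hu (fun d hd => coeff_mul_supp hu hu hd) hc

theorem eight_of_double {α β s γ : ℤ} {n : ℤ} (hn : 0 < n) (hα : 2 ≤ α) (hs : s = α ^ 2)
    (hβ : β = 2 * α) (h1 : α + β = s + γ) (h2 : 2 * α * β = γ * n) : α = 2 ∧ n = 8 := by
  subst hs hβ
  have hγ : γ = 3 * α - α ^ 2 := by linarith
  subst hγ
  have h4 : α * (4 * α) = α * ((3 - α) * n) := by linarith
  have h5 := mul_left_cancel₀ (by omega : α ≠ 0) h4
  have : α ≤ 2 := by nlinarith
  have : α = 2 := by omega
  subst this
  omega

/-- The arithmetic at the prime `2`. -/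
theorem numeric_two {α β s γ n : ℤ} (hn : 0 < n) (hα : 2 ≤ α) (hα' : 2 ≤ n - α) (hβ : 1 ≤ β)
    (hs : s = (α - β) ^ 2) (h1 : α + β = s + γ) (h2 : 2 * α * β = γ * n)
    (hH : s = α ^ 2 ∨ s = (n - α) ^ 2) :
    n = 8 ∧ β = 4 ∧ ((α = 2 ∧ γ = 2) ∨ (α = 6 ∧ γ = 6)) := by
  have hcases : β = 2 * α ∨ β = n ∨ β = 2 * α - n := by
    rcases hH with h | h
    · rcases sq_eq_sq_iff_eq_or_eq_neg.1 (hs.symm.trans h) with h | h
      · omega
      · exact Or.inl (by linarith)
    · rcases sq_eq_sq_iff_eq_or_eq_neg.1 (hs.symm.trans h) with h | h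
      · exact Or.inr (Or.inr (by linarith))
      · exact Or.inr (Or.inl (by linarith))
  rcases hcases with h | h | h
  · have hs' : s = α ^ 2 := by rw [hs, h]; ring
    obtain ⟨rfl, rfl⟩ := eight_of_double hn hα hs' h h1 h2
    exact ⟨rfl, by omega, Or.inl ⟨rfl, by omega⟩⟩
  · subst h
    have hγ : γ = 2 * α := mul_right_cancel₀ (by omega : β ≠ 0) h2.symm
    subst hγ
    have : (β - α) * ((β - α) - 1) = 0 := by nlinarith
    nlinarith
  · subst h
    have hs' : s = (n - α) ^ 2 := by rw [hs]; ring
    have h4 : (n - α) * (4 * (n - α)) = (n - α) * ((3 - (n - α)) * n) := by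
      subst hs'
      have hγ : γ = α + (2 * α - n) - (n - α) ^ 2 := by linarith
      subst hγ
      nlinarith
    have h5 := mul_left_cancel₀ (by omega : n - α ≠ 0) h4
    have : n - α ≤ 2 := by nlinarith
    have h6 : n - α = 2 := by omega
    rw [h6] at h5
    obtain rfl : n = 8 := by omega
    obtain rfl : α = 6 := by omega
    subst hs'
    exact ⟨rfl, by omega, Or.inr ⟨rfl, by omega⟩⟩

/-- The arithmetic at an odd prime. -/
theorem numeric_odd {α β s γ n p : ℤ} (hp : 3 ≤ p) (hα : p ≤ α) (hα' : p ≤ n - α) (hs : s = (α - β) ^ 2)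
    (h1 : α + β = s + γ) (h12 : α ^ 2 + β ^ 2 = s + γ * n)
    (hb : p * (α * (n - α) + s) ≤ n * s) : False := by
  have hid : 2 * α * (n - α) + (β - α) * (n - 2 * α) = n * (β - α) ^ 2 := by
    subst hs
    linear_combination n * h1 - h12
  have hs' : s = (β - α) ^ 2 := by rw [hs]; ring
  subst hs'
  generalize β - α = δ at hid hb
  have hpos : 0 ≤ α * (n - α) := mul_nonneg (by omega) (by omega)
  have hb3 : 3 * (α * (n - α)) + 3 * δ ^ 2 ≤ n * δ ^ 2 := by
    nlinarith [mul_le_mul_of_nonneg_right hp (add_nonneg hpos (sq_nonneg δ))]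
  have hge : 3 * (n - 3) ≤ α * (n - α) := by
    nlinarith [mul_nonneg (by omega : (0:ℤ) ≤ α - 3) (by omega : (0:ℤ) ≤ n - α - 3)]
  have hlt : -2 ≤ δ ∧ δ ≤ 2 := by
    constructor
    · by_contra h
      nlinarith
    · by_contra h
      nlinarith
  have : δ ^ 2 ≤ 4 := by nlinarith
  nlinarith

variable {Γ : Subgroup (Equiv.Perm (DihedralGroup m))}

/-- A rational periodic invariant set avoiding the subgroup of order `p` is empty. -/
theorem yset_empty (hΓ : Prim Γ) (hm : 2 ≤ m) {p : ℕ} (hp : p.Prime) {t : C} (ht : orderOf t = p)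
    {P : D → Prop} (hP : Inv Γ P) (ha : Rat fun c => P (rot c))
    (h1 : ∀ c : C, c ^ p = 1 → ¬ P (rot c))
    (hap : ∀ c, P (rot (c * t)) ↔ P (rot c))
    (hH : p = 2 → ∃ H : Subgroup C, H ≠ ⊤ ∧
      ((∀ c, P (rot c) → c ∈ H) ∨ ∀ c, ¬ P (rot c) → c ∈ H)) (d : D) : ¬ P d := by
  intro hd
  have h10 : ¬ P 1 := fun h => h1 1 (one_pow p) (by rwa [map_one])
  have hbar : bar (cpart (ind ℤ P)) = cpart (ind ℤ P) := bar_cpart hΓ (invA_ind hP)
  have hA2 : Rat (corr fun c => P (rot c)) := rat_corr ha
  have hB2 : Rat (corr fun c => P (refl c)) := rat_corr_refl hΓ hm hP ha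
  set x : MonoidAlgebra ℤ D := ind ℤ P with hx
  set a := cpart x with ha'
  set b := spart x with hb'
  have hac : ∀ c, a.coeff c = if P (rot c) then 1 else 0 := fun c => by
    rw [ha', hx, coeff_cpart_ind]
  have hbc : ∀ c, b.coeff c = if P (refl c) then 1 else 0 := fun c => by
    rw [hb', hx, coeff_spart_ind]
  have hz : x ^ 2 = iota (a * a + bar b * b) + Ref * iota (a * b + a * b) := by
    conv_lhs => rw [eq_parts x]
    exact sq_eq hbar b
  have hzr : ∀ c, (x ^ 2).coeff (rot c) =
      (corr (fun c => P (rot c)) c : ℤ) + corr (fun c => P (refl c)) c := by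
    intro c
    rw [hz, coeff_add, Finsupp.add_apply, coeff_iota_rot, coeff_ref_iota_rot, add_zero, coeff_add,
      Finsupp.add_apply, coeff_bar_mul_self hbc]
    conv_lhs => enter [1, 1, 1, 1]; rw [← hbar]
    rw [coeff_bar_mul_self hac]
  have hzs : ∀ c, (x ^ 2).coeff (refl (c * t)) = (x ^ 2).coeff (refl c) := by
    intro c
    have hper : (a * b).coeff (c * t) = (a * b).coeff c := by
      rw [mul_comm a b, coeff_mul_group, coeff_mul_group]
      refine Finset.sum_congr rfl fun w _ => ?_
      rw [hac, hac, ← mul_assoc]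
      simp only [hap]
    simp only [hz, coeff_add, Finsupp.add_apply, coeff_iota_refl, coeff_ref_iota_refl, hper]
  set γ : ℤ := (x ^ 2).coeff (rot t) with hγ
  have ht1 : t ≠ 1 := fun h => hp.ne_one (by rw [← ht, h, orderOf_one])
  have hconst : ∀ d, d ≠ 1 → (x ^ 2).coeff d = γ := by
    intro d hd
    by_contra hne
    refine empty_of_periodic hΓ hp ht
      (Inv.ne_one_and (((invA_ind hP).pow 2).comp fun r => r ≠ γ)) ?_ ?_ d ⟨hd, hne⟩
    · rintro c hc ⟨hc1, hc2⟩
      refine hc2 ?_
      have hc' : c ≠ 1 := fun h => hc1 (by rw [h, map_one])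
      haveI : Fact p.Prime := ⟨hp⟩
      have ho : orderOf c = orderOf t := by rw [orderOf_eq_prime hc hc', ht]
      rw [hγ, hzr, hzr, hA2 c t ho, hB2 c t ho]
    · intro c
      show (_ ∧ _) ↔ (_ ∧ _)
      rw [← hx, hzs]
      simp [refl_ne_one]
  set α : ℤ := ((#{c | P (rot c)} : ℕ) : ℤ) with hα
  set β : ℤ := ((#{c | P (refl c)} : ℕ) : ℤ) with hβ
  have hea : eps a = α := by
    rw [eps_eq, hα, Finset.natCast_card_filter]
    exact Finset.sum_congr rfl fun c _ => hac c
  have heb : eps b = β := by
    rw [eps_eq, hβ, Finset.natCast_card_filter]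
    exact Finset.sum_congr rfl fun c _ => hbc c
  set s : ℤ := α + β - γ with hs
  have hcorr1 : ∀ Q : C → Prop, corr Q 1 = #{c | Q c} := fun Q => by simp [corr]
  have hE1 : a * a + bar b * b = (s : A) + (γ : A) * allC := by
    refine MonoidAlgebra.coeff_injective (Finsupp.ext fun c => ?_)
    have h := hzr c
    rw [hz, coeff_add, Finsupp.add_apply, coeff_iota_rot, coeff_ref_iota_rot, add_zero] at h
    rw [h, coeff_add, Finsupp.add_apply, coeff_intCast, coeff_intCast_mul, coeff_allC]
    split_ifs with hc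
    · subst hc
      rw [hcorr1, hcorr1, hs]
      ring
    · rw [← hzr, hconst _ (rot_ne_one hc)]
      ring
  have hE2 : a * b + a * b = (γ : A) * allC := by
    refine MonoidAlgebra.coeff_injective (Finsupp.ext fun c => ?_)
    have h := hconst _ (refl_ne_one c)
    rw [hz, coeff_add, Finsupp.add_apply, coeff_iota_refl, coeff_ref_iota_refl, zero_add] at h
    rw [h, coeff_intCast_mul, coeff_allC, mul_one]
  have h11 : α + β = s + γ := by rw [hs]; ring
  have h12 : α ^ 2 + β ^ 2 = s + γ * (m : ℤ) := by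
    have := congrArg eps hE1
    simp only [map_add, map_mul, map_intCast, eps_bar, hea, heb, eps_allC, Int.cast_id] at this
    linarith [sq α, sq β]
  have h2 : 2 * α * β = γ * (m : ℤ) := by
    have := congrArg eps hE2
    simp only [map_add, map_mul, map_intCast, hea, heb, eps_allC, Int.cast_id] at this
    linarith
  have hs2 : s = (α - β) ^ 2 := by
    linear_combination -h12 + h2
  have hbS : bar b * allC = (β : A) * allC := by rw [mul_allC, eps_bar, heb]
  have h3 : 2 * a ^ 3 = 2 * (s : A) * a + ((γ * (2 * α - β) : ℤ) : A) * allC := by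
    push_cast
    have haS : a * allC = (α : A) * allC := by rw [mul_allC, hea]
    linear_combination 2 * a * hE1 + 2 * (γ : A) * haS - bar b * hE2 - (γ : A) * hbS
  have hap' : ∀ c, P (rot (c * t⁻¹)) ↔ P (rot c) := fun c => by
    rw [← hap, inv_mul_cancel_right]
  have hT : single t 1 * a = a := by
    refine MonoidAlgebra.coeff_injective (Finsupp.ext fun c => ?_)
    rw [coeff_mul_group, Finset.sum_eq_single t]
    · rw [coeff_single, Finsupp.single_apply, if_pos rfl, one_mul, hac, hac, mul_comm t⁻¹]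
      simp only [hap']
    · intro w _ hw; simp [coeff_single, Ne.symm hw]
    · simp
  have hbound := periodic_bound hp ht hbar hT (fun c => by rw [hac]; split_ifs <;> simp) hea h3
  obtain ⟨ca, hca, hca'⟩ := exists_rot_of_inv hΓ hm hP h10 hd
  obtain ⟨cb, hcb⟩ := exists_refl_of_inv hΓ hP h10 hd
  have hαp : (p : ℤ) ≤ α := by
    rw [hα]
    exact_mod_cast Nat.le_of_dvd (Finset.card_pos.2 ⟨ca, by simp [hca']⟩)
      (dvd_card_periodic hp ht hap)
  have hαp' : (p : ℤ) ≤ (m : ℤ) - α := by
    have h : p ≤ #{c | ¬ P (rot c)} := Nat.le_of_dvd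
      (Finset.card_pos.2 ⟨1, by simp [h10]⟩)
      (by convert dvd_card_periodic hp ht (Q := fun c => ¬ P (rot c)) fun c => by rw [hap])
    have h' := Finset.card_filter_add_card_filter_not (s := (univ : Finset C)) fun c => P (rot c)
    rw [Finset.card_univ, card_rot] at h'
    omega
  have hβ1 : 1 ≤ β := by
    rw [hβ]
    exact_mod_cast Finset.card_pos.2 ⟨cb, by simp [hcb]⟩
  have hp2 : (2 : ℤ) ≤ p := by exact_mod_cast hp.two_le
  rcases eq_or_ne p 2 with hpe | hpe
  · obtain ⟨H, hH, hH'⟩ := hH hpe
    obtain ⟨g, hg⟩ : ∃ g, g ∉ H := by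
      by_contra hall
      push Not at hall
      exact hH (eq_top_iff.2 fun c _ => hall c)
    have hg1 : g ≠ 1 := fun h => hg (h ▸ H.one_mem)
    have hg3 := congrArg (fun z : A => z.coeff g) h3
    simp only [mul_assoc, coeff_intCast_mul, two_mul, add_mul, coeff_add, Finsupp.add_apply,
      coeff_allC] at hg3
    have hm0 : (m : ℤ) ≠ 0 := by exact_mod_cast NeZero.ne m
    have hkk : 2 * α ^ 3 = 2 * s * α + γ * (2 * α - β) * (m : ℤ) := by
      have := congrArg eps h3
      simp only [map_mul, map_pow, map_add, map_ofNat, map_intCast, hea, eps_allC, Int.cast_id]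
        at this
      exact this
    have hHs : s = α ^ 2 ∨ s = ((m : ℤ) - α) ^ 2 := by
      rcases hH' with hH' | hH'
      · refine Or.inl ?_
        have hga : a.coeff g = 0 := by rw [hac, if_neg fun h => hg (hH' g h)]
        have hg0 : (a ^ 3).coeff g = 0 :=
          coeff_cube_supp (fun c hc => by rw [hac, if_neg fun h => hc (hH' c h)]) hg
        rw [hg0, hga] at hg3
        have hk0 : γ * (2 * α - β) = 0 := by linarith
        rw [hk0] at hkk
        have h2' : 2 * (α * (α ^ 2 - s)) = 0 := by linear_combination hkk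
        have : α * (α ^ 2 - s) = 0 := by linarith
        rcases mul_eq_zero.1 this with h | h
        · omega
        · linarith
      · refine Or.inr ?_
        have hga : a.coeff g = 1 := by rw [hac, if_pos (not_not.1 fun h => hg (hH' g h))]
        have hu : ((allC - a) ^ 3).coeff g = 0 := coeff_cube_supp (fun c hc => by
          rw [coeff_sub, Finsupp.sub_apply, coeff_allC, hac,
            if_pos (not_not.1 fun h => hc (hH' c h)), sub_self]) hg
        have hexp : 2 * (allC - a) ^ 3 =
            ((2 * ((m : ℤ) ^ 2 - 3 * m * α + 3 * α ^ 2) : ℤ) : A) * allC - 2 * a ^ 3 := by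
          have haS : a * allC = (α : A) * allC := by rw [mul_allC, hea]
          have hSS := allC_mul_allC (m := m)
          push_cast at hSS ⊢
          linear_combination (2 * allC + 2 * (m : A) - 6 * a) * hSS +
            (6 * a + 6 * (α : A) - 6 * (m : A)) * haS
        have hge := congrArg (fun z : A => z.coeff g) hexp
        simp only [two_mul, coeff_add, coeff_sub, Finsupp.add_apply, Finsupp.sub_apply,
          coeff_intCast_mul, coeff_allC] at hge
        rw [hu] at hge
        rw [hga] at hg3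
        have h0 : ((m : ℤ) - α) * (((m : ℤ) - α) ^ 2 - s) = 0 := by
          have hk' : γ * (2 * α - β) = 2 * ((m : ℤ) ^ 2 - 3 * m * α + 3 * α ^ 2) - 2 * s := by
            linarith
          rw [hk'] at hkk
          linarith
        rcases mul_eq_zero.1 h0 with h | h
        · omega
        · linarith
    obtain ⟨hm8, hβ4, hcases⟩ := numeric_two (by omega : (0 : ℤ) < m) (by omega) (by omega) hβ1
      hs2 h11 h2 hHs
    have hm8' : m = 8 := by exact_mod_cast hm8
    subst hm8'
    have hγ' : γ.toNat < 7 := by omega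
    refine @eight (fun c => P (rot c)) (fun c => P (refl c)) t (ht.trans hpe)
      (fun c => by rw [map_inv, Inv.symmetric hΓ hP]) hap (by rwa [map_one])
      ⟨γ.toNat, hγ'⟩ (by show γ.toNat = 2 ∨ γ.toNat = 6; omega) ?_ ?_ fun c hc => ?_
    · show _ = γ.toNat
      omega
    · omega
    · show _ = γ.toNat
      have := hconst _ (rot_ne_one hc)
      rw [hzr] at this
      omega
  · refine numeric_odd (p := (p : ℤ)) ?_ hαp hαp' hs2 h11 h12 ?_
    · have := hp.two_le; omega
    · have hpos : 0 < α * ((m : ℤ) - α) + s := by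
        have : 0 < α * ((m : ℤ) - α) := mul_pos (by omega) (by omega)
        have : 0 ≤ s := hs2 ▸ sq_nonneg _
        omega
      nlinarith

end CfsgLib.DihB
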